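import Cfsg.Agent.H11.SzUniq.Model
import Cfsg.Agent.H57.SzStab

/-!
The Suzuki group is a model.
-/

set_option autoImplicit false
set_option linter.style.haveILetI false
set_option linter.unusedSectionVars false

namespace H11.SzUniq

open H57

variable {F : Type*} [Field F] [Fintype F] [CharP F 2] {m : ℕ}

/-- The coordinates of the Suzuki group. -/
def szQ (hF : Fintype.card F = 2 ^ (2 * m + 1)) (θ : F ≃+* F) (a c : F) : Cfsg.Sz F m :=
  tEl hF a (c + θ a * a)

theorem sz_model (hm : 1 ≤ m) (hF : Fintype.card F = 2 ^ (2 * m + 1)) (θ : F ≃+* F)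
    (hθ : ∀ x, θ x = th m x) : Model θ 1 1 (szQ hF θ) (dHom hF) (wEl hF) := by
  have hq : ∀ a c : F, szQ hF θ a c • ovPt m (0 : F) 0 = ovPt m a (c + θ a * a) := fun a c =>
    tEl_ovPt_zero hF _ _
  refine ⟨⟨fun a c b d => ?_, fun l a c => ?_, wEl_mul_self hF, fun l => ?_, ?_⟩, fun g => ?_,
    fun a c l h => ?_, fun a c l a' c' h => ?_⟩
  · rw [szQ, szQ, szQ, tEl_mul hF, ← hθ, kap, CharTwo.add_self_eq_zero, zero_mul, add_zero,
      one_mul, map_add]
    congr 1
    linear_combination -(a * θ b) * (CharTwo.two_eq_zero (R := F))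
  · rw [dHom_apply, szQ, szQ, dEl_tEl hF, ← hθ, nrm, map_mul]
    congr 2
    ring
  · rw [dHom_apply, dHom_apply, ← wEl_dEl hF l, mul_assoc, wEl_mul_self hF, mul_one]
  · have e1 : (szQ hF θ 1 0)⁻¹ = tEl hF 1 0 := by
      refine inv_eq_of_mul_eq_one_right ?_
      rw [szQ, tEl_mul hF, ← hθ, ← tEl_zero hF]
      simp [CharTwo.add_self_eq_zero]
    rw [e1]
    simp only [szQ, map_zero, map_one, mul_zero, add_zero, zero_add, mul_one]
    apply Subtype.ext
    apply Matrix.SpecialLinearGroup.ext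
    intro i j
    show (Cfsg.suzukiForm F * tMat m (0 : F) 1 * Cfsg.suzukiForm F) i j =
      (tMat m (1 : F) 0 * Cfsg.suzukiForm F * tMat m (1 : F) 1) i j
    have h2 := two_eq_zero hF
    fin_cases i <;> fin_cases j <;>
      simp [Cfsg.suzukiForm, tMat, oF, Matrix.mul_apply, Fin.sum_univ_succ, th_one, th_zero] <;>
      simp [CharTwo.add_self_eq_zero]
  · rcases sz_cases hm hF g with ⟨a, b, l, rfl⟩ | ⟨a, b, c, d, l, rfl⟩
    · exact Or.inl ⟨a, b + θ a * a, l, by
        rw [szQ, add_assoc, CharTwo.add_self_eq_zero, add_zero, dHom_apply]⟩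
    · right
      refine ⟨a, b + θ a * a, l⁻¹, (↑l⁻¹ : F) * c,
        th m (↑l⁻¹ : F) * (↑l⁻¹ : F) * d + θ ((↑l⁻¹ : F) * c) * ((↑l⁻¹ : F) * c), ?_⟩
      rw [szQ, szQ, add_assoc, CharTwo.add_self_eq_zero, add_zero, add_assoc,
        CharTwo.add_self_eq_zero, add_zero, dHom_apply]
      have h1 := dEl_tEl hF l⁻¹ c d
      have h2 : dEl hF l * dEl hF l⁻¹ = 1 := by rw [dEl_mul, mul_inv_cancel, dEl_one]
      have h3 : dEl hF l⁻¹ * dEl hF l = 1 := by rw [dEl_mul, inv_mul_cancel, dEl_one]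
      have h4 : tEl hF c d * dEl hF l = dEl hF l * tEl hF ((↑l⁻¹ : F) * c)
          (th m (↑l⁻¹ : F) * (↑l⁻¹ : F) * d) := by
        calc tEl hF c d * dEl hF l
            = dEl hF l * (dEl hF l⁻¹ * tEl hF c d) * dEl hF l := by
              rw [← mul_assoc (dEl hF l), h2, one_mul]
          _ = _ := by rw [h1, mul_assoc, mul_assoc, h3, mul_one]
      have h5 : wEl hF * dEl hF l = dEl hF l⁻¹ * wEl hF := by
        rw [← wEl_dEl hF l, mul_assoc, wEl_mul_self hF, mul_one]
      rw [h4, mul_assoc (tEl hF a b), ← mul_assoc (wEl hF), h5]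
      group
  · have h1 := congrArg (fun x : Cfsg.Sz F m => x • ovPt m (0 : F) 0) h
    simp only [mul_smul, one_smul, dHom_apply, dEl_ovPt_zero, hq] at h1
    obtain ⟨rfl, h2⟩ := ovPt_inj h1
    rw [map_zero, zero_mul, add_zero] at h2
    subst h2
    refine ⟨rfl, rfl, dHom_injective hF ?_⟩
    rw [szQ, map_zero, zero_mul, add_zero, tEl_zero, one_mul] at h
    rw [h, map_one]
  · have h1 := congrArg (fun x : Cfsg.Sz F m => x • Cfsg.suzukiPointInfinity F) h
    simp only [mul_smul, one_smul, dHom_apply, szQ, tEl_infty, wEl_infty, dEl_ovPt_zero,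
      tEl_ovPt_zero] at h1
    exact ovPt_ne_infty _ _ h1

end H11.SzUniq
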