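import Cfsg.Agent.H11.SzUniq.FromCtx
import Cfsg.Agent.H11.SzUniq.SzModel
import Cfsg.Agent.H57.SzForm
import Cfsg.Agent.H66.ZassSuzukiCtx

/-!
**Suzuki**: a Zassenhaus group with a non-abelian 2-kernel is a Suzuki group.
-/

set_option autoImplicit false
set_option linter.style.haveILetI false

namespace H11.SzUniq

open MulAction

/-- Uniqueness of the Suzuki groups, from the rank-one context. -/
theorem ctx_isoSuzuki {G Ω : Type*} [Group G] [Finite G] [MulAction G Ω] {a : Ω} {t : G}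
    {Q : Subgroup G} (hC : H66.ZS.Ctx G Ω a t Q) (hna : ∃ u ∈ Q, ∃ v ∈ Q, u * v ≠ v * u) :
    Cfsg.Lie.IsoSuzuki G := by
  obtain ⟨F, hF, hFfin, hF2, m, θ, q, δ, hm, hcard, hθ, hN, hM⟩ := exists_model hC hna
  obtain ⟨e⟩ := nonempty_mulEquiv hM (sz_model hm hcard θ hθ) hN
  exact ⟨F, hF, hFfin, m, hm, hcard, ⟨e.trans (H57.lieSzEquiv hm hcard)⟩⟩

/-- Uniqueness of the Suzuki groups, from Zassenhaus data. -/
theorem zassenhaus_isoSuzuki {G Ω : Type*} [Group G] [Finite G] [MulAction G Ω] [Finite Ω]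
    (hZ : Cfsg.IsZassenhausGroup G Ω) {a b : Ω} (hab : a ≠ b) (U : Subgroup G)
    (hUle : U ≤ stabilizer G a) (hUn : ∀ h ∈ stabilizer G a, ∀ u ∈ U, h * u * h⁻¹ ∈ U)
    (hreg : ∀ c d : Ω, c ≠ a → d ≠ a → ∃! u : U, (u : G) • c = d)
    (hU2 : IsPGroup 2 U) (hUna : ∃ u ∈ U, ∃ v ∈ U, u * v ≠ v * u) :
    Cfsg.Lie.IsoSuzuki G := by
  obtain ⟨v, -, hC⟩ := H66.ZS.exists_ctx hZ hab hUle hUn hreg hU2 hUna
  exact ctx_isoSuzuki hC hUna

end H11.SzUniq
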