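import Cfsg.Agent.H11.SzUniq.Param

/-!
An equivariant section with bilinear cocycle.
-/

set_option autoImplicit false
set_option linter.style.haveILetI false
set_option linter.unusedSectionVars false

namespace H11.SzUniq

/-- A symmetric cocycle vanishing on the diagonal is a coboundary. -/
theorem exists_coboundary {F : Type} [Field F] [Finite F] [CharP F 2] (β : F → F → F)
    (hc : ∀ a b d, β a b + β (a + b) d = β b d + β a (b + d)) (hs : ∀ a b, β a b = β b a)
    (hd : ∀ a, β a a = 0) (h0 : ∀ a, β 0 a = 0) :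
    ∃ f : F → F, ∀ a b, f (a + b) = f a + f b + β a b := by
  classical
  obtain ⟨U, ⟨f, hf⟩, hmax⟩ := (Set.toFinite
    {U : AddSubgroup F | ∃ f : F → F, ∀ a ∈ U, ∀ b ∈ U, f (a + b) = f a + f b + β a b}).exists_maximal
    ⟨⊥, fun _ => 0, fun a ha b hb => by
      rw [AddSubgroup.mem_bot] at ha hb
      subst ha hb
      rw [h0, add_zero, add_zero]⟩
  suffices htop : U = ⊤ by
    exact ⟨f, fun a b => hf a (htop ▸ trivial) b (htop ▸ trivial)⟩
  by_contra hne
  obtain ⟨v, -, hv⟩ := SetLike.exists_of_lt (lt_top_iff_ne_top.2 hne)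
  have h2 : ∀ x : F, x + x = 0 := CharTwo.add_self_eq_zero
  let U' : AddSubgroup F :=
    { carrier := {x | x ∈ U ∨ x + v ∈ U}
      zero_mem' := Or.inl (zero_mem _)
      add_mem' := fun {x y} hx hy => by
        rcases hx with hx | hx <;> rcases hy with hy | hy
        · exact Or.inl (add_mem hx hy)
        · exact Or.inr (by rw [add_assoc]; exact add_mem hx hy)
        · exact Or.inr (by rw [add_right_comm]; exact add_mem hx hy)
        · left
          have := add_mem hx hy
          rwa [add_add_add_comm, h2, add_zero] at this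
      neg_mem' := fun {x} hx => by rwa [CharTwo.neg_eq] }
  have hUU' : U ≤ U' := fun x hx => Or.inl hx
  have hnot : ∀ x ∈ U, x + v ∉ U := fun x hx h => hv (by
    have := add_mem hx h
    rwa [← add_assoc, h2, zero_add] at this)
  let f' : F → F := fun x => if x ∈ U then f x else f (x + v) + β (x + v) v
  have hf0 : f 0 = 0 := by
    have := hf 0 (zero_mem _) 0 (zero_mem _)
    rw [add_zero, h2, zero_add, h0] at this
    exact this
  have hU' : U' ≤ U := by
    refine hmax ⟨f', fun x hx y hy => ?_⟩ hUU'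
    have e1 : ∀ u ∈ U, f' u = f u := fun u hu => if_pos hu
    have e2 : ∀ u ∈ U, f' (u + v) = f u + β u v := fun u hu => by
      rw [show f' (u + v) = _ from if_neg (hnot u hu), add_assoc, h2, add_zero]
    have e4 : ∀ x ∈ U', x ∉ U → ∃ u ∈ U, x = u + v := fun x hx h' =>
      ⟨x + v, hx.resolve_left h', by rw [add_assoc, h2, add_zero]⟩
    have hshift : ∀ u w : F, β u v + β (u + v) w = β u w + β (u + w) v := by
      intro u w
      linear_combination hc u v w - hc u w v + hs v w + congrArg (β u) (add_comm v w)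
    by_cases hxU : x ∈ U <;> by_cases hyU : y ∈ U
    · rw [e1 _ (add_mem hxU hyU), e1 _ hxU, e1 _ hyU, hf x hxU y hyU]
    · obtain ⟨w, hw, rfl⟩ := e4 y hy hyU
      rw [← add_assoc, e2 _ (add_mem hxU hw), e1 _ hxU, e2 _ hw, hf x hxU w hw]
      linear_combination hc x w v
    · obtain ⟨u, hu, rfl⟩ := e4 x hx hxU
      rw [add_right_comm, e2 _ (add_mem hu hyU), e1 _ hyU, e2 _ hu, hf u hu y hyU]
      linear_combination -1 * hshift u y
    · obtain ⟨u, hu, rfl⟩ := e4 x hx hxU
      obtain ⟨w, hw, rfl⟩ := e4 y hy hyU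
      rw [show u + v + (w + v) = u + w by rw [add_add_add_comm, h2, add_zero],
        e1 _ (add_mem hu hw), e2 _ hu, e2 _ hw, hf u hu w hw]
      have c1 := hc (u + v) w v
      have c2 := hshift u w
      have c3 : β (u + v + w) v = β (u + w) v := by
        have := hc (u + w) v v
        rw [hd, h2, hs (u + w) 0, h0, add_zero] at this
        rw [show u + v + w = u + w + v by ring]
        exact (CharTwo.add_eq_zero.1 this).symm
      linear_combination c1 - c2 - c3 - β (u + w) v * (CharTwo.two_eq_zero (R := F))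
  exact hv (hU' (Or.inr (by rw [h2]; exact zero_mem _)))

/-- Equivariant version. -/
theorem exists_const {F : Type} [Field F] [Fintype F] [CharP F 2] (θ : F ≃+* F) (β : F → F → F)
    (hc : ∀ a b d, β a b + β (a + b) d = β b d + β a (b + d)) (hs : ∀ a b, β a b = β b a)
    (hd : ∀ a, β a a = 0) (h0 : ∀ a, β 0 a = 0)
    (heq : ∀ l a b, β (l * a) (l * b) = nrm θ l * β a b) :
    ∃ c : F, ∀ a b, β a b = c * (a * θ b + θ a * b) := by
  classical
  obtain ⟨f, hf⟩ := exists_coboundary β hc hs hd h0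
  let g : F → F := fun a => ∑ l : Fˣ, (nrm θ (l : F))⁻¹ * f ((l : F) * a)
  have hcard : ((Fintype.card Fˣ : ℕ) : F) = 1 := by
    rw [Fintype.card_units, Nat.cast_sub Fintype.card_pos, FiniteField.cast_card_eq_zero,
      Nat.cast_one, zero_sub, CharTwo.neg_eq]
  have hg : ∀ a b, g (a + b) = g a + g b + β a b := by
    intro a b
    calc g (a + b) = ∑ l : Fˣ, ((nrm θ (l : F))⁻¹ * f ((l : F) * a) +
          (nrm θ (l : F))⁻¹ * f ((l : F) * b) + β a b) := by
          refine Finset.sum_congr rfl fun l _ => ?_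
          rw [mul_add, hf, heq, mul_add, mul_add, ← mul_assoc _ (nrm θ (l : F)),
            inv_mul_cancel₀ (nrm_ne_zero θ l.ne_zero), one_mul]
      _ = _ := by
          rw [Finset.sum_add_distrib, Finset.sum_add_distrib, Finset.sum_const, Finset.card_univ,
            nsmul_eq_mul, hcard, one_mul]
  have hsc : ∀ (m : Fˣ) (a : F), g ((m : F) * a) = nrm θ (m : F) * g a := by
    intro m a
    rw [Finset.mul_sum]
    refine Fintype.sum_equiv (Equiv.mulRight m) _ _ fun l => ?_
    simp only [Equiv.coe_mulRight, Units.val_mul, nrm_mul, mul_inv, mul_assoc]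
    rw [mul_left_comm (nrm θ (m : F)), ← mul_assoc (nrm θ (m : F)),
      mul_inv_cancel₀ (nrm_ne_zero θ m.ne_zero), one_mul]
  have hgN : ∀ a, g a = nrm θ a * g 1 := by
    intro a
    by_cases ha : a = 0
    · subst ha
      have := hg 0 0
      rw [add_zero, CharTwo.add_self_eq_zero, zero_add, h0] at this
      rw [this, nrm_zero, zero_mul]
    · have := hsc (Units.mk0 a ha) 1
      rwa [Units.val_mk0, mul_one] at this
  refine ⟨g 1, fun a b => ?_⟩
  have := hg a b
  rw [hgN (a + b), hgN a, hgN b] at this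
  simp only [nrm, map_add] at this
  linear_combination -1 * this

universe u v

/-- The coordinates. -/
theorem exists_coords {P : Type u} {L : Type v} [Group P] [Finite P] [CommGroup L] [Finite L]
    [MulDistribMulAction L P] (hO : Ops P L) {r : P} (hr : r ∉ Subgroup.center P) :
    ∃ (F : Type) (_ : Field F) (_ : Fintype F) (_ : CharP F 2) (θ : F ≃+* F) (μ : F)
      (χ : L →* F) (q : F → F → P), Fintype.card F = Nat.card (Subgroup.center P) ∧
      Function.Injective χ ∧ (∀ a : F, a ≠ 0 → ∃ k, χ k = a) ∧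
      Function.Bijective (nrm θ) ∧ (∀ x : P, ∃ a c, q a c = x) ∧
      (∀ a c b d, q a c = q b d → a = b ∧ c = d) ∧
      (∀ a c b d, q a c * q b d = q (a + b) (c + d + kap θ μ a b)) ∧
      (∀ (k : L) a c, k • q a c = q (χ k * a) (nrm θ (χ k) * c)) ∧ q 1 0 = r := by
  classical
  obtain ⟨F, hF, hFfin, hF2, θ, χ, π, e, hcard, hp⟩ := exists_param hO hr
  have hZ : ∀ {x}, π x = 0 → x ∈ Subgroup.center P := fun {x} h => (hp.π_ker x).1 h
  have hπ1 : π 1 = 0 := (hp.π_ker 1).2 (one_mem _)
  have he1 : e 1 = 0 := by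
    have h := hp.e_mul 1 1 (one_mem _) (one_mem _)
    rw [mul_one] at h
    exact left_eq_add.mp h
  have hπi : ∀ x, π x⁻¹ = π x := fun x => by
    have h := hp.π_mul x⁻¹ x
    rw [inv_mul_cancel, hπ1] at h
    exact CharTwo.add_eq_zero.1 h.symm
  choose k hk using hp.χ_surj
  let R : F → P := fun a => if h : a = 0 then 1 else k a h • r
  have hR0 : R 0 = 1 := dif_pos rfl
  have hπR : ∀ a, π (R a) = a := fun a => by
    by_cases h : a = 0
    · rw [h, hR0, hπ1]
    · rw [show R a = k a h • r from dif_neg h, hp.π_smul, hk, hp.π_r, mul_one]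
  have hRk : ∀ (l : L) a, l • R a = R (χ l * a) := fun l a => by
    by_cases h : a = 0
    · rw [h, mul_zero, hR0, smul_one]
    have hl : χ l ≠ 0 := fun e1 => by
      have := map_mul χ l l⁻¹
      rw [mul_inv_cancel, map_one, e1, zero_mul] at this
      exact one_ne_zero this
    have h' : χ l * a ≠ 0 := mul_ne_zero hl h
    rw [show R a = k a h • r from dif_neg h, show R (χ l * a) = k _ h' • r from dif_neg h', smul_smul]
    congr 1
    exact hp.χ_inj (by rw [map_mul, hk, hk])
  choose ζ hζZ hζe using hp.e_surj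
  have hζu : ∀ z ∈ Subgroup.center P, ζ (e z) = z := fun z hz =>
    hp.e_inj _ _ (hζZ _) hz (hζe _)
  have hζmul : ∀ c d, ζ c * ζ d = ζ (c + d) := fun c d => by
    rw [← hζu _ (mul_mem (hζZ c) (hζZ d)), hp.e_mul _ _ (hζZ c) (hζZ d), hζe, hζe]
  have hζk : ∀ (l : L) c, l • ζ c = ζ (nrm θ (χ l) * c) := fun l c => by
    have hmem : l • ζ c ∈ Subgroup.center P := by
      rw [hO.cen, ← smul_mul', (hO.cen _).1 (hζZ c), smul_one]
    rw [← hζu _ hmem, hp.e_smul l _ (hζZ c), hζe]
  let κ : F → F → F := fun a b => e ((R (a + b))⁻¹ * (R a * R b))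
  have hκ : ∀ a b, R a * R b = R (a + b) * ζ (κ a b) := fun a b => by
    rw [hζu _ (hZ (by rw [hp.π_mul, hp.π_mul, hπi, hπR, hπR, hπR, CharTwo.add_self_eq_zero])),
      mul_inv_cancel_left]
  have hcom : ∀ c (x : P), ζ c * x = x * ζ c := fun c x =>
    (Subgroup.mem_center_iff.1 (hζZ c) x).symm
  have hmul : ∀ a c b d, R a * ζ c * (R b * ζ d) = R (a + b) * ζ (c + d + κ a b) := by
    intro a c b d
    calc R a * ζ c * (R b * ζ d) = R a * (ζ c * R b) * ζ d := by group
      _ = R a * R b * (ζ c * ζ d) := by rw [hcom]; group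
      _ = R (a + b) * (ζ (κ a b) * ζ (c + d)) := by rw [hκ, hζmul]; group
      _ = _ := by rw [hζmul, add_comm (κ a b)]
  have hinj : ∀ a c b d, R a * ζ c = R b * ζ d → a = b ∧ c = d := by
    intro a c b d h
    have h1 := congrArg π h
    rw [hp.π_mul, hp.π_mul, hπR, hπR, (hp.π_ker _).2 (hζZ c), (hp.π_ker _).2 (hζZ d), add_zero,
      add_zero] at h1
    refine ⟨h1, ?_⟩
    rw [h1] at h
    rw [← hζe c, mul_left_cancel h, hζe]
  have hκ0 : ∀ b, κ 0 b = 0 := fun b => by
    show e _ = 0
    rw [hR0, zero_add, one_mul, inv_mul_cancel, he1]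
  have hκ0' : ∀ b, κ b 0 = 0 := fun b => by
    show e _ = 0
    rw [hR0, add_zero, mul_one, inv_mul_cancel, he1]
  have hκd : ∀ a, κ a a = nrm θ a := fun a => by
    show e _ = _
    rw [CharTwo.add_self_eq_zero, hR0, inv_one, one_mul, hp.e_sq, hπR]
  have hκeq : ∀ l a b, κ (χ l * a) (χ l * b) = nrm θ (χ l) * κ a b := by
    intro l a b
    have h := congrArg (fun x => l • x) (hκ a b)
    simp only [smul_mul', hRk, hζk] at h
    rw [hκ, ← mul_add] at h
    exact (hinj _ _ _ _ h).2
  have hκc : ∀ a b d, κ a b + κ (a + b) d = κ b d + κ a (b + d) := by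
    intro a b d
    have h := mul_assoc (R a * ζ 0) (R b * ζ 0) (R d * ζ 0)
    rw [hmul, hmul, hmul, hmul] at h
    have := (hinj _ _ _ _ h).2
    linear_combination this
  have hκs : ∀ a b, κ a b + κ b a = a * θ b + θ a * b := by
    intro a b
    have h : e ((R a * ζ 0) * (R b * ζ 0) * ((R a * ζ 0) * (R b * ζ 0))) = nrm θ (a + b) := by
      rw [hp.e_sq]; congr 1
      rw [hp.π_mul, hp.π_mul, hp.π_mul, hπR, hπR, (hp.π_ker _).2 (hζZ 0), add_zero, add_zero]
    rw [show (R a * ζ 0) * (R b * ζ 0) * ((R a * ζ 0) * (R b * ζ 0)) =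
      (R a * ζ 0) * ((R b * ζ 0) * (R a * ζ 0)) * (R b * ζ 0) by group, hmul, hmul, hmul] at h
    rw [show a + (b + a) + b = 0 by linear_combination (a + b) * (CharTwo.two_eq_zero (R := F)),
      hR0, one_mul, hζe] at h
    have hsum : κ a (b + a) + κ (a + (b + a)) b = κ a b + κ b a + κ a a + κ b b + κ b a := by
      have c3 := hκc a a b
      rw [CharTwo.add_self_eq_zero, hκ0] at c3
      have : a + (b + a) = b := by linear_combination a * (CharTwo.two_eq_zero (R := F))
      rw [this, add_comm b a]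
      linear_combination -1 * c3 - (κ b a + κ a b) * (CharTwo.two_eq_zero (R := F))
    simp only [nrm, map_add] at h hκd
    linear_combination h - hsum - hκd a - hκd b -
      (κ b a) * (CharTwo.two_eq_zero (R := F))
  obtain ⟨c₀, hc₀⟩ := exists_const θ (fun a b => κ a b + θ a * b)
    (fun a b d => by
      simp only [map_add]
      linear_combination hκc a b d)
    (fun a b => by
      linear_combination hκs a b - (κ b a - θ a * b + θ b * a - θ b * a) * (CharTwo.two_eq_zero (R := F)))
    (fun a => by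
      show κ a a + _ = 0
      rw [hκd, nrm, CharTwo.add_self_eq_zero])
    (fun a => by rw [hκ0, map_zero, zero_mul, add_zero])
    (fun l a b => by
      by_cases hl : l = 0
      · simp [hl, hκ0, nrm_zero]
      obtain ⟨j, rfl⟩ := hp.χ_surj l hl
      rw [hκeq, map_mul]
      simp only [nrm]
      ring)
  have hκf : ∀ a b, κ a b = kap θ c₀ a b := fun a b => by
    have := hc₀ a b
    rw [kap]
    linear_combination this - θ a * b * (CharTwo.two_eq_zero (R := F))
  refine ⟨F, hF, hFfin, hF2, θ, c₀, χ, fun a c => R a * ζ c, hcard, hp.χ_inj, hp.χ_surj, hp.nrm_bij,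
    fun x => ⟨π x, e ((R (π x))⁻¹ * x), ?_⟩, hinj, fun a c b d => by rw [hmul, hκf], ?_, ?_⟩
  · show _ * _ = x
    rw [hζu _ (hZ (by rw [hp.π_mul, hπi, hπR, CharTwo.add_self_eq_zero])), mul_inv_cancel_left]
  · intro l a c
    rw [smul_mul', hRk, hζk]
  · show R 1 * ζ 0 = r
    have h1 : ζ 0 = 1 := by rw [← he1, hζu _ (one_mem _)]
    rw [h1, mul_one, show R 1 = k 1 one_ne_zero • r from dif_neg one_ne_zero,
      show k 1 one_ne_zero = 1 from hp.χ_inj (by rw [hk, map_one]), one_smul]

end H11.SzUniq
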