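import Cfsg.Agent.H11.SzUniq.Model
import Cfsg.Agent.H11.SzUniq.Section
import Cfsg.Agent.H66.ZassSuzukiMain

/-!
A Zassenhaus group with a non-abelian 2-kernel is a model with `θ ^ 2 = 2` and `μ = 1`.
-/

set_option autoImplicit false
set_option linter.style.haveILetI false
set_option linter.unusedSectionVars false

namespace H11.SzUniq

open MulAction H66.R1 H66.ZS

theorem exists_big {F : Type*} [Field F] [Fintype F] [CharP F 2] (θ : F ≃+* F)
    (hθ : ∃ x, θ x ≠ x) (hcard : 8 ≤ Fintype.card F) :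
    ∃ X Z : F, X + X * X ≠ 0 ∧
      θ ((Z + Z * Z) / (X + X * X)) ≠ (Z + Z * Z) / (X + X * X) := by
  classical
  set W := Finset.univ.image (fun X : F => X + X * X) with hW
  have hWc : Fintype.card F ≤ 2 * W.card := by
    rw [← Finset.card_univ]
    refine Finset.card_le_mul_card_image _ 2 fun w hw => ?_
    obtain ⟨X₀, -, hX₀⟩ := Finset.mem_image.1 hw
    calc _ ≤ ({X₀, 1 + X₀} : Finset F).card := Finset.card_le_card fun X hX => by
          have h1 : X + X * X = w := (Finset.mem_filter.1 hX).2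
          have h2 : (X + X₀) * (X + (1 + X₀)) = 0 := by
            linear_combination h1 - hX₀ + (X * X₀ + X₀ + X₀ * X₀) * (CharTwo.two_eq_zero (R := F))
          rcases mul_eq_zero.1 h2 with h | h <;> simp [CharTwo.add_eq_zero.1 h]
      _ ≤ 2 := Finset.card_le_two
  obtain ⟨u, huW, hu⟩ : ∃ u ∈ W, u ≠ 0 := by
    by_contra hcon
    push Not at hcon
    have : W.card ≤ 1 := Finset.card_le_one.2 fun a ha b hb => (hcon a ha).trans (hcon b hb).symm
    omega
  obtain ⟨X, -, rfl⟩ := Finset.mem_image.1 huW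
  by_contra hcon
  push Not at hcon
  obtain ⟨x, hx⟩ := hθ
  set K := Finset.univ.filter (fun y : F => θ y = y) with hK
  have hKc : W.card ≤ K.card := by
    refine Finset.card_le_card_of_injOn (fun w => w / (X + X * X)) (fun w hw => ?_)
      (fun a _ b _ e => by simpa [div_left_inj' hu] using e)
    obtain ⟨Z, -, rfl⟩ := Finset.mem_image.1 (Finset.mem_coe.1 hw)
    exact Finset.mem_filter.2 ⟨Finset.mem_univ _, hcon X Z hu⟩
  have hKK : K.card * K.card ≤ Fintype.card F := by
    rw [← Finset.card_product, ← Finset.card_univ]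
    refine Finset.card_le_card_of_injOn (fun p => p.1 + p.2 * x) (fun p _ => Finset.mem_univ _) ?_
    rintro ⟨a, b⟩ hab ⟨a', b'⟩ hab' e
    simp only [Finset.coe_product, Set.mem_prod, hK, Finset.coe_filter, Finset.mem_univ, true_and,
      Set.mem_ofPred_eq] at hab hab'
    simp only at e
    have e' := congrArg θ e
    rw [map_add, map_add, map_mul, map_mul, hab.1, hab.2, hab'.1, hab'.2] at e'
    have h3 : (b - b') * (θ x - x) = 0 := by linear_combination e' - e
    obtain rfl := sub_eq_zero.1 ((mul_eq_zero.1 h3).resolve_right (sub_ne_zero.2 hx))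
    exact Prod.ext (add_right_cancel e) rfl
  nlinarith

/-- An automorphism with `θ θ = ` squaring is the Tits endomorphism. -/
theorem eq_pow_of_sq {F : Type*} [Field F] [Fintype F] [CharP F 2] (θ : F ≃+* F) {m : ℕ}
    (hF : Fintype.card F = 2 ^ (2 * m + 1)) (hθ : ∀ x, θ (θ x) = x ^ 2) (x : F) :
    θ x = x ^ 2 ^ (m + 1) := by
  classical
  have hit : ∀ (j : ℕ) (y : F), (θ ∘ θ)^[j] y = y ^ 2 ^ j := by
    intro j
    induction j with
    | zero => simp
    | succ j ih =>
      intro y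
      rw [Function.iterate_succ_apply', ih, Function.comp_apply, hθ, ← pow_mul, pow_succ]
  -- `ψ = θ ^ n`
  set ψ : F → F := fun y => θ (y ^ 2 ^ m) with hψ
  have hψψ : ∀ y, ψ (ψ y) = y := fun y => by
    simp only [hψ, map_pow, hθ, ← pow_mul]
    calc y ^ (2 * 2 ^ m * 2 ^ m) = y ^ Fintype.card F := by rw [hF]; congr 1; ring
      _ = y := FiniteField.pow_card y
  have hψadd : ∀ y z, ψ (y + z) = ψ y + ψ z := fun y z => by
    haveI := Fact.mk Nat.prime_two
    simp only [hψ, add_pow_char_pow, map_add]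
  have hψmul : ∀ y z, ψ (y * z) = ψ y * ψ z := fun y z => by
    simp only [hψ, mul_pow, map_mul]
  have hid : ∀ y, ψ y = y := by
    by_contra hcon
    push Not at hcon
    obtain ⟨y, hy⟩ := hcon
    set K := Finset.univ.filter (fun z : F => ψ z = z) with hK
    have hv : y + ψ y ≠ 0 := fun e => hy (CharTwo.add_eq_zero.1 e).symm
    have hfix : ∀ z, ψ (z + ψ z) = z + ψ z := fun z => by rw [hψadd, hψψ, add_comm]
    have hcard : Fintype.card F = K.card * K.card := by
      rw [← Finset.card_product, ← Finset.card_univ]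
      refine (Finset.card_bij (fun p _ => p.1 + p.2 * y) (fun p _ => Finset.mem_univ _) ?_ ?_).symm
      · rintro ⟨a, b⟩ hab ⟨a', b'⟩ hab' e
        simp only [Finset.mem_product, hK, Finset.mem_filter, Finset.mem_univ, true_and] at hab hab'
        simp only at e
        have e' := congrArg ψ e
        rw [hψadd, hψadd, hψmul, hψmul, hab.1, hab.2, hab'.1, hab'.2] at e'
        have h3 : (b - b') * (ψ y - y) = 0 := by linear_combination e' - e
        obtain rfl := sub_eq_zero.1 ((mul_eq_zero.1 h3).resolve_right (sub_ne_zero.2 hy))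
        exact Prod.ext (add_right_cancel e) rfl
      · intro z _
        set b := (z + ψ z) / (y + ψ y) with hb
        have hbK : ψ b = b := by
          have h1 : ψ b * (y + ψ y) = z + ψ z := by
            conv_lhs => rw [← hfix y, ← hψmul, div_mul_cancel₀ _ hv, hfix z]
          rw [hb, eq_div_iff hv]
          exact h1
        refine ⟨(z + b * y, b), ?_, ?_⟩
        · simp only [Finset.mem_product, hK, Finset.mem_filter, Finset.mem_univ, true_and]
          refine ⟨?_, hbK⟩
          rw [hψadd, hψmul, hbK]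
          have h1 : b * (y + ψ y) = z + ψ z := div_mul_cancel₀ _ hv
          linear_combination h1 + (ψ z - b * y) * (CharTwo.two_eq_zero (R := F))
        · linear_combination (b * y) * (CharTwo.two_eq_zero (R := F))
    rw [hF] at hcard
    obtain ⟨j, -, hj⟩ := (Nat.dvd_prime_pow Nat.prime_two).1 (Dvd.intro _ hcard.symm)
    rw [hj, ← pow_add] at hcard
    have := Nat.pow_right_injective le_rfl hcard
    omega
  calc θ x = ψ (θ x) := (hid _).symm
    _ = θ (θ x) ^ 2 ^ m := by simp only [hψ, map_pow]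
    _ = x ^ 2 ^ (m + 1) := by rw [hθ, ← pow_mul, pow_succ']

variable {G Ω : Type*} [Group G] [Finite G] [MulAction G Ω] {a : Ω} {t : G} {Q : Subgroup G}

theorem exists_model (hC : H66.ZS.Ctx G Ω a t Q) (hna : ∃ u ∈ Q, ∃ v ∈ Q, u * v ≠ v * u) :
    ∃ (F : Type) (_ : Field F) (_ : Fintype F) (_ : CharP F 2) (m : ℕ) (θ : F ≃+* F)
      (q : F → F → G) (δ : Fˣ →* G), 1 ≤ m ∧ Fintype.card F = 2 ^ (2 * m + 1) ∧
      (∀ x, θ x = x ^ 2 ^ (m + 1)) ∧ Function.Bijective (nrm θ) ∧ Model θ 1 1 q δ t := by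
  classical
  have hS := hC.setup
  obtain ⟨n, hn, hn1, hQ, hcZ, hD⟩ := zs_main hC hna
  obtain ⟨hSuz, -, -, -, hfour, hcen⟩ := Q_structure hC hna
  obtain ⟨hchar, hexp⟩ := H66.Hig.suzuki_center hSuz
  obtain ⟨⟨s, r⟩, ⟨hs, hr, he⟩, -⟩ := H66.R1.exists_pair hS
  simp only [] at hs hr he
  letI : CommGroup (twoPt G a t) :=
    { (inferInstance : Group (twoPt G a t)) with
      mul_comm := fun x y => Subtype.ext (D_comm hC x.2 y.2) }
  let φ : twoPt G a t →* MulAut Q := (Q.normalizerMonoidHom).comp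
    (Subgroup.inclusion (inf_le_left.trans (H66.R1.le_normalizer hS)))
  letI : MulDistribMulAction (twoPt G a t) Q := MulDistribMulAction.compHom Q φ
  have hsm : ∀ (d : twoPt G a t) (x : Q), ((d • x : Q) : G) = d * x * (d : G)⁻¹ :=
    fun d x => rfl
  have hO : Ops Q (twoPt G a t) := by
    refine ⟨fun d x hx1 h => Subtype.ext (semireg hC d.2 x.2 (mul_inv_eq_iff_eq_mul.mp
      (congrArg Subtype.val h)) (fun h => hx1 (Subtype.ext h))), fun z => ⟨hexp z, fun h => ?_⟩,
      fun x => Subtype.ext ?_, by rw [hcZ, hQ], by rw [hcZ, hD]⟩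
    · by_cases h1 : z = 1
      · rw [h1]; exact one_mem _
      · exact ((hchar z).1 ⟨h1, h⟩).1
    · show (x : G) * x * ((x : G) * x) = 1
      rw [← pow_two, ← pow_two, ← pow_mul]
      exact hfour x x.2
  have hsQ : s ∈ Q := invol_mem_Q hS (mem_stabilizer_iff.mp hs.1) hs.2.2
  have hrc : (⟨r, hr⟩ : Q) ∉ Subgroup.center Q := by
    intro hc
    have hrr : r * r = 1 := congrArg Subtype.val ((hO.cen _).1 hc)
    have hri : r⁻¹ = r := inv_eq_of_mul_eq_one_right hrr
    have hr1 : r ≠ 1 := fun e => by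
      rw [e, inv_one, one_mul, mul_one] at he
      have hst : s = t := by
        calc s = (t * t) * s * (t * t) := by rw [hS.mul_self]; group
          _ = t * (t * s * t) * t := by group
          _ = t := by rw [he, hS.mul_self, one_mul]
      exact hS.not_mem (hst ▸ hs.1)
    obtain ⟨d, hd, hdr⟩ := exists_conj_D hC hs
      (show r ∈ Cfsg.involutionsIn (stabilizer G a : Set G) from ⟨hS.le hr, hr1, hrr⟩)
    have h1 := hts hC hs hr he hd
    rw [hdr] at h1
    have h2 : t * r * t = s * 1 * t * r := by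
      calc t * r * t = t * r * t * (r * r) := by rw [hrr, mul_one]
        _ = t * (r⁻¹ * t * r) * r := by rw [hri]; group
        _ = t * (t * s * t) * r := by rw [he]
        _ = (t * t) * s * 1 * t * r := by group
        _ = s * 1 * t * r := by rw [hS.mul_self, one_mul]
    obtain ⟨e1, e2, e3⟩ := canonical_unique hS (inv_mem (twoPt_conj_Q' hS hd hr))
      (mul_mem (inv_mem hd) (inv_mem hd)) (twoPt_conj_Q' hS hd hr) hsQ (one_mem _) hr
      (h1.symm.trans h2)
    rw [e3, hri] at e1
    subst e1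
    have hy3 : (r * t) ^ 3 = 1 := by
      have he' : t * r * t = r * t * r := by rw [he, hri]
      calc (r * t) ^ 3 = r * (t * r * t) * (r * t) := by rw [pow_three]; group
        _ = (r * r) * t * (r * r) * t := by rw [he']; group
        _ = 1 := by rw [hrr, one_mul, mul_one, hS.mul_self]
    have hy1 : r * t ≠ 1 := fun h => by
      have := eq_inv_of_mul_eq_one_left h
      rw [t_inv hS] at this
      exact hS.not_mem (this ▸ hs.1)
    haveI : Fact (Nat.Prime 3) := ⟨Nat.prime_three⟩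
    have h3 : 3 ∣ Nat.card G := orderOf_eq_prime hy3 hy1 ▸ orderOf_dvd_natCard (r * t)
    rw [card_group hS, hQ] at h3
    have hmod := pow_mod_three hn
    rcases (Nat.prime_three.dvd_mul).1 h3 with h4 | h4
    · rcases (Nat.prime_three.dvd_mul).1 h4 with h5 | h5
      · have := Nat.prime_three.dvd_of_dvd_pow (Nat.prime_three.dvd_of_dvd_pow h5)
        omega
      · omega
    · rw [Nat.dvd_iff_mod_eq_zero, Nat.add_mod, Nat.pow_mod, hmod] at h4
      norm_num at h4
  obtain ⟨F, hF, hFfin, hF2, θ, μ, χ, q, hcard, hχi, hχs, hN, hqs, hqi, hqm, hqk, hqr⟩ :=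
    exists_coords hO hrc
  -- the homomorphism `δ`
  let χu : twoPt G a t →* Fˣ := χ.toHomUnits
  have hχu : Function.Bijective χu := by
    refine ⟨fun x y h => hχi (by
      have := congrArg Units.val h
      simpa [χu] using this), fun u => ?_⟩
    obtain ⟨k, hk⟩ := hχs u u.ne_zero
    exact ⟨k, Units.ext (by simpa [χu] using hk)⟩
  let δ : Fˣ →* G := (twoPt G a t).subtype.comp (MulEquiv.ofBijective χu hχu).symm.toMonoidHom
  have hδmem : ∀ l, δ l ∈ twoPt G a t := fun l => ((MulEquiv.ofBijective χu hχu).symm l).2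
  have hδχ : ∀ l : Fˣ, χ ⟨δ l, hδmem l⟩ = (l : F) := fun l => by
    have := congrArg Units.val ((MulEquiv.ofBijective χu hχu).apply_symm_apply l)
    exact this
  set qG : F → F → G := fun b c => (q b c : G) with hqG
  have hconj : ∀ (l : Fˣ) (b c : F), δ l * qG b c = qG ((l : F) * b) (nrm θ (l : F) * c) * δ l := by
    intro l b c
    have h1 := congrArg Subtype.val (hqk ⟨δ l, hδmem l⟩ b c)
    rw [hsm, hδχ] at h1
    exact mul_inv_eq_iff_eq_mul.1 h1
  obtain ⟨a₀, k, hk⟩ := hqs ⟨s, hsQ⟩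
  have ha₀ : a₀ = 0 := by
    have h1 : q a₀ k * q a₀ k = q 0 0 * q 0 0 := by
      have h00 : q 0 0 = 1 := by
        have := hqm 0 0 0 0
        simp only [kap, map_zero, mul_zero, add_zero] at this
        exact mul_eq_left.1 this
      rw [h00, mul_one, hk]
      exact Subtype.ext hs.2.2
    rw [hqm, hqm] at h1
    have h2 := (hqi _ _ _ _ h1).2
    simp only [kap, map_zero, mul_zero, add_zero] at h2
    refine hN.1 ?_
    rw [nrm_zero, nrm]
    linear_combination h2 - k * (CharTwo.two_eq_zero (R := F)) -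
      μ * (θ a₀ * a₀) * (CharTwo.two_eq_zero (R := F))
  subst ha₀
  have hk0 : k ≠ 0 := by
    rintro rfl
    apply hs.2.1
    have := hqm 0 0 0 0
    simp only [kap, map_zero, mul_zero, add_zero] at this
    rw [mul_eq_left.1 this] at hk
    exact (congrArg Subtype.val hk).symm
  have hrel : Rel θ μ k qG δ t := by
    refine ⟨fun b c b' d => congrArg Subtype.val (hqm b c b' d), hconj, hS.mul_self,
      fun l => ?_, ?_⟩
    · rw [D_swap' hC (hδmem l), map_inv]
    · rw [hqG]
      simp only [hk, hqr]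
      exact he
  have hmov : ∀ b c l b' c', (qG b c * δ l * t * qG b' c') • a = qG b c • (t • a) := fun b c l b' c' => by
    rw [mul_smul, mul_smul, mul_smul, fix_a hS (q b' c').2, (mem_twoPt.1 (hδmem l)).2]
  have huniq : ∀ x R R', Cell qG δ t x R → Cell qG δ t x R' → R = R' := by
    rintro x R R' ⟨L, lc, H, rc, e⟩ ⟨L', lc', H', rc', e'⟩
    exact (hqi _ _ _ _ (Subtype.ext (canonical_unique hS (q L lc).2 (hδmem H) (q R rc).2
      (q L' lc').2 (hδmem H') (q R' rc').2 (e.symm.trans e')).2.2)).1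
  have hkey : Key θ μ k := fun X Y p => hrel.key hN huniq hk0 p
  obtain ⟨m, hm⟩ := hn
  have hFm : Fintype.card F = 2 ^ (2 * m + 1) := by rw [hcard, hcZ, hm]
  have hm1 : 1 ≤ m := by omega
  have hθne : ∃ x, θ x ≠ x := by
    by_contra hcon
    push Not at hcon
    obtain ⟨u, hu, v, hv, huv⟩ := hna
    obtain ⟨b, c, hb⟩ := hqs ⟨u, hu⟩
    obtain ⟨b', d, hb'⟩ := hqs ⟨v, hv⟩
    have h1 : q b c * q b' d = q b' d * q b c := by
      rw [hqm, hqm, kap, kap, hcon, hcon, add_comm b, add_comm c d, mul_comm b']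
    rw [hb, hb'] at h1
    exact huv (congrArg Subtype.val h1)
  obtain ⟨rfl, hμ⟩ := hkey.mu_cases hN (exists_big θ hθne (by
    rw [hFm]
    calc 8 = 2 ^ 3 := by norm_num
      _ ≤ _ := Nat.pow_le_pow_right (by norm_num) (by omega))) hk0
  have hgen : ∀ g : G, (∃ b c l, g = qG b c * δ l) ∨
      ∃ b c l b' c', g = qG b c * δ l * t * qG b' c' := by
    have hB : ∀ g : G, g • a = a → ∃ b c l, g = qG b c * δ l := by
      intro g hg
      obtain ⟨u, hu, d, hd, rfl⟩ := exists_decomp hS hg
      obtain ⟨b, c, hb⟩ := hqs ⟨u, hu⟩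
      refine ⟨b, c, χu ⟨d, hd⟩, ?_⟩
      have h1 : δ (χu ⟨d, hd⟩) = d :=
        congrArg Subtype.val ((MulEquiv.ofBijective χu hχu).symm_apply_apply ⟨d, hd⟩)
      rw [h1, hqG]
      simp only [hb]
    intro g
    by_cases hg : g • a = a
    · exact Or.inl (hB g hg)
    obtain ⟨u, hu, hug⟩ := Q_trans_aux hS hg
    obtain ⟨b', c', l, hl⟩ := hB (t * u⁻¹ * g) (by
      rw [mul_smul, mul_smul, ← hug, inv_smul_smul, t_smul_smul hS])
    obtain ⟨b, c, hb⟩ := hqs ⟨u, hu⟩
    right
    refine ⟨b, c, l⁻¹, (↑l⁻¹ : F) * b', nrm θ (↑l⁻¹ : F) * c', ?_⟩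
    have hb2 : qG b c = u := congrArg Subtype.val hb
    calc g = u * (t * t) * u⁻¹ * g := by rw [hS.mul_self]; group
      _ = u * (t * (t * u⁻¹ * g)) := by group
      _ = u * (t * (δ l * qG ((↑l⁻¹ : F) * b') (nrm θ (↑l⁻¹ : F) * c'))) := by
        rw [hl, hrel.mul_conj]
      _ = u * (δ l⁻¹ * t) * qG ((↑l⁻¹ : F) * b') (nrm θ (↑l⁻¹ : F) * c') := by
        rw [← hrel.swap l]; group
      _ = _ := by rw [hb2]; group
  have hfree : ∀ b c l, qG b c * δ l = 1 → b = 0 ∧ c = 0 ∧ l = 1 := by
    intro b c l h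
    have h1 : qG b c = 1 := eq_one_of_mem_inf hS (q b c).2 (by
      rw [show qG b c = (δ l)⁻¹ from eq_inv_of_mul_eq_one_left h, inv_smul_eq_iff,
        (mem_twoPt.1 (hδmem l)).2])
    rw [h1, one_mul] at h
    have h2 := hqi b c 0 0 (Subtype.ext (h1.trans hrel.q_zero.symm))
    refine ⟨h2.1, h2.2, Units.ext ?_⟩
    rw [← hδχ l, Units.val_one, ← map_one χ]
    exact congrArg χ (Subtype.ext h)
  have hbig : ∀ b c l b' c', qG b c * δ l * t * qG b' c' ≠ 1 := fun b c l b' c' h => by
    have := hmov b c l b' c'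
    rw [h, one_smul] at this
    exact Q_smul_ne hS (q b c).2 (ta_ne hS) this.symm
  rcases hμ with rfl | rfl
  · -- invert `θ`
    let θ' := θ.symm
    let q' : F → F → G := fun b c => qG (θ' b) c
    let δ' : Fˣ →* G := δ.comp (Units.map (θ' : F →* F))
    have hnrm : ∀ x, nrm θ (θ' x) = nrm θ' x := fun x => by
      simp only [nrm, θ', RingEquiv.apply_symm_apply]; ring
    have hN' : Function.Bijective (nrm θ') := by
      rw [show nrm θ' = nrm θ ∘ θ' from funext fun x => (hnrm x).symm]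
      exact hN.comp θ'.bijective
    have hrel' : Rel θ' 1 1 q' δ' t := by
      refine ⟨fun b c b' d => ?_, fun l b c => ?_, hS.mul_self, fun l => ?_, ?_⟩
      · simp only [q', hrel.mul, map_add, kap, θ', RingEquiv.apply_symm_apply, zero_mul,
          CharTwo.add_self_eq_zero, add_zero, zero_add, one_mul]
      · simp only [q', δ', MonoidHom.comp_apply]
        rw [hrel.conj, Units.coe_map, show ((θ' : F →* F) (l : F)) = θ' l from rfl, hnrm, map_mul]
      · simp only [δ', MonoidHom.comp_apply]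
        rw [hrel.swap, map_inv (Units.map (θ' : F →* F))]
      · simp only [q', map_zero, map_one]
        exact hrel.base
    have hkey' : Key θ' 1 1 := fun X Y p => hrel'.key hN' (by
      rintro x R R' ⟨L, lc, H, rc, e⟩ ⟨L', lc', H', rc', e'⟩
      exact θ'.injective (huniq x (θ' R) (θ' R') ⟨θ' L, lc, Units.map (θ' : F →* F) H, rc, e⟩
        ⟨θ' L', lc', Units.map (θ' : F →* F) H', rc', e'⟩)) one_ne_zero p
    have hu : ∀ l : Fˣ, ∃ l' : Fˣ, Units.map (θ' : F →* F) l' = l := fun l =>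
      ⟨Units.map (θ : F →* F) l, Units.ext (by simp [θ'])⟩
    refine ⟨F, hF, hFfin, hF2, m, θ', q', δ', hm1, hFm,
      eq_pow_of_sq θ' hFm (hkey'.theta_sq hN'), hN',
      ⟨hrel', fun g => ?_, fun b c l h => ?_, fun b c l b' c' => hbig _ _ _ _ _⟩⟩
    · rcases hgen g with ⟨b, c, l, rfl⟩ | ⟨b, c, l, b', c', rfl⟩
      · obtain ⟨l', rfl⟩ := hu l
        exact Or.inl ⟨θ b, c, l', by simp [q', δ', θ']⟩
      · obtain ⟨l', rfl⟩ := hu l
        exact Or.inr ⟨θ b, c, l', θ b', c', by simp [q', δ', θ']⟩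
    · obtain ⟨e1, e2, e3⟩ := hfree _ c _ h
      refine ⟨θ'.injective (e1.trans (map_zero θ').symm), e2, Units.ext (θ'.injective ?_)⟩
      rw [Units.val_one, map_one]
      exact congrArg Units.val e3
  · exact ⟨F, hF, hFfin, hF2, m, θ, qG, δ, hm1, hFm, eq_pow_of_sq θ hFm (hkey.theta_sq hN), hN,
      ⟨hrel, hgen, hfree, hbig⟩⟩

end H11.SzUniq
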