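import Cfsg.Agent.H11.SzUniq.Theta

/-!
Two finite groups with the same coordinates are isomorphic.
-/

set_option autoImplicit false
set_option linter.style.haveILetI false
set_option linter.unusedSectionVars false

namespace H11.SzUniq

variable {F : Type*} [Field F] [CharP F 2]

/-- A group described by coordinates. -/
structure Model {G : Type*} [Group G] (θ : F ≃+* F) (μ k : F) (q : F → F → G) (δ : Fˣ →* G)
    (t : G) : Prop extends Rel θ μ k q δ t where
  gen : ∀ g : G, (∃ a c l, g = q a c * δ l) ∨ ∃ a c l a' c', g = q a c * δ l * t * q a' c'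
  free : ∀ a c l, q a c * δ l = 1 → a = 0 ∧ c = 0 ∧ l = 1
  big : ∀ a c l a' c', q a c * δ l * t * q a' c' ≠ 1

variable {θ : F ≃+* F} {G : Type*} [Group G] {q : F → F → G} {δ : Fˣ →* G} {t : G}

/-- With `μ = 1` the big cell is closed. -/
theorem Rel.exists_cell (h : Rel θ 1 1 q δ t) (hN : Function.Bijective (nrm θ)) {a c : F}
    (hac : a ≠ 0 ∨ c ≠ 0) : ∃ R, Cell q δ t (q a c) R := by
  by_cases ha : a = 0
  · subst ha
    obtain ⟨l, hl⟩ := hN.2 c
    have hl0 : l ≠ 0 := fun e => hac.elim (fun h => h rfl) fun h => h (by rw [← hl, e, nrm_zero])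
    have h1 := h.tZ (Units.mk0 l hl0)
    rw [Units.val_mk0, one_mul, hl, h.q_inv] at h1
    exact ⟨_, _, _, _, _, h1⟩
  have key : ∀ d : F, ∃ R, Cell q δ t (q 1 d) R := by
    intro d
    obtain ⟨X, rfl⟩ := θ.surjective d
    by_cases h0 : X = 0
    · subst h0
      exact ⟨0, 1, 0, 1, 1, by rw [map_zero, h.tR, map_one, mul_one]⟩
    by_cases h1 : 1 + X = 0
    · rw [← CharTwo.add_eq_zero.1 h1, map_one]
      exact ⟨1, 0, 1, 1, 1, by rw [h.tR', map_one, mul_one]⟩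
    obtain ⟨Y, p⟩ := exists_pair hN h0 h1
    have hX : ell θ 1 X = θ X := by
      rw [ell, one_mul, CharTwo.add_self_eq_zero, zero_mul, add_zero]
    exact ⟨_, hX ▸ h.cell_pair p⟩
  obtain ⟨R, hR⟩ := key (c / nrm θ a)
  have h2 := h.cell_delta hR (Units.mk0 a ha)
  rw [h.conj, mul_inv_cancel_right, Units.val_mk0, mul_one,
    mul_div_cancel₀ _ (nrm_ne_zero θ ha)] at h2
  exact ⟨_, h2⟩

/-- The elements in normal form. -/
def InForm (q : F → F → G) (δ : Fˣ →* G) (t g : G) : Prop :=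
  (∃ a c l, g = q a c * δ l) ∨ ∃ a c l a' c', g = q a c * δ l * t * q a' c'

theorem Rel.inForm_mul_q {μ k : F} (h : Rel θ μ k q δ t) {g : G} (hg : InForm q δ t g) (b d : F) :
    InForm q δ t (g * q b d) := by
  rcases hg with ⟨a, c, l, rfl⟩ | ⟨a, c, l, a', c', rfl⟩
  · left
    refine ⟨a + (l : F) * b, c + nrm θ (l : F) * d + kap θ μ a ((l : F) * b), l, ?_⟩
    rw [mul_assoc, h.conj, ← mul_assoc, h.mul]
  · right
    exact ⟨a, c, l, a' + b, c' + d + kap θ μ a' b, by rw [mul_assoc _ (q a' c'), h.mul]⟩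

theorem Rel.inForm_mul_delta {μ k : F} (h : Rel θ μ k q δ t) {g : G} (hg : InForm q δ t g) (m : Fˣ) :
    InForm q δ t (g * δ m) := by
  rcases hg with ⟨a, c, l, rfl⟩ | ⟨a, c, l, a', c', rfl⟩
  · exact Or.inl ⟨a, c, l * m, by rw [map_mul, mul_assoc]⟩
  · right
    refine ⟨a, c, l * m⁻¹, (↑m⁻¹ : F) * a', nrm θ (↑m⁻¹ : F) * c', ?_⟩
    rw [mul_assoc _ (q a' c'), h.mul_conj m a' c', map_mul, ← mul_assoc, mul_assoc _ t (δ m), h.swap m,
      ← mul_assoc, ← mul_assoc]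

theorem Rel.inForm_mul_t (h : Rel θ 1 1 q δ t) (hN : Function.Bijective (nrm θ)) {g : G}
    (hg : InForm q δ t g) : InForm q δ t (g * t) := by
  rcases hg with ⟨a, c, l, rfl⟩ | ⟨a, c, l, a', c', rfl⟩
  · exact Or.inr ⟨a, c, l, 0, 0, by rw [h.q_zero, mul_one]⟩
  · by_cases h0 : a' = 0 ∧ c' = 0
    · obtain ⟨rfl, rfl⟩ := h0
      exact Or.inl ⟨a, c, l, by rw [h.q_zero, mul_one, mul_assoc, h.sq, mul_one]⟩
    · obtain ⟨R, L, lc, H, rc, e⟩ := h.exists_cell hN (a := a') (c := c') (by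
        rwa [← not_and_or])
      refine Or.inr ⟨a + (l : F) * L, c + nrm θ (l : F) * lc + kap θ 1 a ((l : F) * L), l * H, R,
        rc, ?_⟩
      calc q a c * δ l * t * q a' c' * t
          = q a c * δ l * (t * q a' c' * t) := by group
        _ = q a c * (δ l * q L lc) * δ H * t * q R rc := by rw [e]; group
        _ = _ := by rw [h.conj, ← mul_assoc (q a c), h.mul, map_mul]; group

/-- A projection of the normal forms onto a model is bijective. -/
theorem bijective_proj {K : Type*} [Group K] {H : Subgroup G}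
    (hH : ∀ g, g ∈ H ↔ InForm q δ t g) (h : Rel θ 1 1 q δ t)
    (f : G →* K) (qK : F → F → K) (δK : Fˣ →* K) (tK : K)
    (eq : ∀ a c, f (q a c) = qK a c) (eδ : ∀ l, f (δ l) = δK l) (et : f t = tK)
    (hK : Model θ 1 1 qK δK tK) : Function.Bijective (f.comp H.subtype) := by
  refine ⟨(injective_iff_map_eq_one _).2 ?_, fun k => ?_⟩
  · rintro ⟨g, hg⟩ hg1
    refine Subtype.ext ?_
    show g = 1
    replace hg1 : f g = 1 := hg1
    rcases (hH g).1 hg with ⟨a, c, l, rfl⟩ | ⟨a, c, l, a', c', rfl⟩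
    · rw [map_mul, eq, eδ] at hg1
      obtain ⟨rfl, rfl, rfl⟩ := hK.free a c l hg1
      rw [h.q_zero, map_one, mul_one]
    · rw [map_mul, map_mul, map_mul, eq, eδ, et, eq] at hg1
      exact absurd hg1 (hK.big a c l a' c')
  · rcases hK.gen k with ⟨a, c, l, rfl⟩ | ⟨a, c, l, a', c', rfl⟩
    · refine ⟨⟨q a c * δ l, (hH _).2 <| Or.inl ⟨a, c, l, rfl⟩⟩, ?_⟩
      show f (q a c * δ l) = _
      rw [map_mul, eq, eδ]
    · refine ⟨⟨q a c * δ l * t * q a' c', (hH _).2 <| Or.inr ⟨a, c, l, a', c', rfl⟩⟩, ?_⟩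
      show f (q a c * δ l * t * q a' c') = _
      rw [map_mul, map_mul, map_mul, eq, eδ, et, eq]

/-- The normal forms of a model pair form a subgroup mapping isomorphically to both. -/
theorem nonempty_mulEquiv {G₁ G₂ : Type*} [Group G₁] [Group G₂] [Finite F]
    {q₁ : F → F → G₁} {δ₁ : Fˣ →* G₁} {t₁ : G₁} {q₂ : F → F → G₂} {δ₂ : Fˣ →* G₂} {t₂ : G₂}
    (h₁ : Model θ 1 1 q₁ δ₁ t₁) (h₂ : Model θ 1 1 q₂ δ₂ t₂) (hN : Function.Bijective (nrm θ)) :
    Nonempty (G₁ ≃* G₂) := by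
  set q : F → F → G₁ × G₂ := fun a c => (q₁ a c, q₂ a c)
  set δ : Fˣ →* G₁ × G₂ := δ₁.prod δ₂
  set t : G₁ × G₂ := (t₁, t₂)
  have h : Rel θ 1 1 q δ t := ⟨fun a c b d => Prod.ext (h₁.mul a c b d) (h₂.mul a c b d),
    fun l a c => Prod.ext (h₁.conj l a c) (h₂.conj l a c), Prod.ext h₁.sq h₂.sq,
    fun l => Prod.ext (h₁.swap l) (h₂.swap l), Prod.ext h₁.base h₂.base⟩
  have hmul : ∀ {g g' : G₁ × G₂}, InForm q δ t g → InForm q δ t g' → InForm q δ t (g * g') := by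
    rintro g g' hg (⟨a, c, l, rfl⟩ | ⟨a, c, l, a', c', rfl⟩)
    · rw [← mul_assoc]
      exact h.inForm_mul_delta (h.inForm_mul_q hg a c) l
    · rw [← mul_assoc, ← mul_assoc, ← mul_assoc]
      exact h.inForm_mul_q
        (h.inForm_mul_t hN (h.inForm_mul_delta (h.inForm_mul_q hg a c) l)) a' c'
  have hone : InForm q δ t 1 := Or.inl ⟨0, 0, 1, by rw [h.q_zero, map_one, mul_one]⟩
  have ht : t⁻¹ = t := inv_eq_of_mul_eq_one_right h.sq
  let H : Subgroup (G₁ × G₂) :=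
    { carrier := {g | InForm q δ t g}
      one_mem' := hone
      mul_mem' := fun hg hg' => hmul hg hg'
      inv_mem' := fun {g} hg => by
        show InForm q δ t g⁻¹
        rw [← one_mul g⁻¹]
        rcases hg with ⟨a, c, l, rfl⟩ | ⟨a, c, l, a', c', rfl⟩
        · rw [mul_inv_rev, h.q_inv, ← map_inv, ← mul_assoc]
          exact h.inForm_mul_q (h.inForm_mul_delta hone l⁻¹) _ _
        · rw [mul_inv_rev, mul_inv_rev, mul_inv_rev, h.q_inv, h.q_inv, ← map_inv, ht,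
            ← mul_assoc, ← mul_assoc, ← mul_assoc]
          exact h.inForm_mul_q (h.inForm_mul_delta (h.inForm_mul_t hN
            (h.inForm_mul_q hone _ _)) l⁻¹) _ _ }
  have b₁ := bijective_proj (H := H) (fun _ => Iff.rfl) h (MonoidHom.fst G₁ G₂) q₁ δ₁ t₁ (fun _ _ => rfl) (fun _ => rfl) rfl h₁
  have b₂ := bijective_proj (H := H) (fun _ => Iff.rfl) h (MonoidHom.snd G₁ G₂) q₂ δ₂ t₂ (fun _ _ => rfl) (fun _ => rfl) rfl h₂
  exact ⟨(MulEquiv.ofBijective _ b₁).symm.trans (MulEquiv.ofBijective _ b₂)⟩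

end H11.SzUniq
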