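import Cfsg.Agent.H11.SzUniq.Rel
import Cfsg.Agent.H66.RegularField
import Cfsg.Agent.H66.FieldMaps

/-!
Field parameters for a 2-group `P` with `|P| = |Z(P)| ^ 2` and a fixed-point-free abelian group of
operators regular on the involutions.
-/

set_option autoImplicit false
set_option linter.style.haveILetI false
set_option linter.unusedSectionVars false

namespace H11.SzUniq

universe u v

/-- The hypotheses on `P` and its operators. -/
structure Ops (P : Type u) (L : Type v) [Group P] [CommGroup L] [MulDistribMulAction L P] : Prop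
    where
  free : ∀ (k : L) (x : P), x ≠ 1 → k • x = x → k = 1
  cen : ∀ z : P, z ∈ Subgroup.center P ↔ z * z = 1
  four : ∀ x : P, (x * x) * (x * x) = 1
  cardP : Nat.card P = Nat.card (Subgroup.center P) ^ 2
  cardL : Nat.card L + 1 = Nat.card (Subgroup.center P)

theorem smul_one_imp {P : Type u} {L : Type v} [Group P] [CommGroup L] [MulDistribMulAction L P]
    (k : L) (a : P) (h : k • a = 1) : a = 1 := by
  rw [← inv_smul_smul k a, h, smul_one]

/-- A fixed-point-free group of order one less is transitive. -/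
theorem trans_of_free {X : Type u} {L : Type v} [Group X] [Finite X] [CommGroup L] [Finite L]
    [MulDistribMulAction L X]
    (hfree : ∀ (k : L) (x : X), x ≠ 1 → k • x = x → k = 1) (hc : Nat.card L + 1 = Nat.card X)
    (a b : X) (ha : a ≠ 1) (hb : b ≠ 1) : ∃ k : L, k • a = b := by
  have hinj : Function.Injective (fun o : Option L => o.elim (1 : X) (fun k => k • a)) := by
    rintro (_ | k) (_ | l) h
    · rfl
    · exact absurd (smul_one_imp l a h.symm) ha
    · exact absurd (smul_one_imp k a h) ha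
    · refine congrArg some (inv_mul_eq_one.mp (hfree (k⁻¹ * l) a ha ?_))
      rw [mul_smul, ← show k • a = l • a from h, inv_smul_smul]
  obtain ⟨o, ho⟩ := (hinj.bijective_of_nat_card_le (by rw [Finite.card_option, hc])).2 b
  cases o with
  | none => exact absurd ho.symm hb
  | some k => exact ⟨k, ho⟩

/-- The parameters. -/
structure Param (P : Type u) (L : Type v) [Group P] [CommGroup L] [MulDistribMulAction L P]
    (r : P) (F : Type) [Field F] (θ : F ≃+* F) (χ : L →* F) (π e : P → F) : Prop where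
  χ_inj : Function.Injective χ
  χ_surj : ∀ a : F, a ≠ 0 → ∃ k, χ k = a
  π_mul : ∀ x y, π (x * y) = π x + π y
  π_ker : ∀ x, π x = 0 ↔ x ∈ Subgroup.center P
  π_smul : ∀ (k : L) x, π (k • x) = χ k * π x
  π_r : π r = 1
  e_mul : ∀ x y, x ∈ Subgroup.center P → y ∈ Subgroup.center P → e (x * y) = e x + e y
  e_inj : ∀ x y, x ∈ Subgroup.center P → y ∈ Subgroup.center P → e x = e y → x = y
  e_surj : ∀ c, ∃ x ∈ Subgroup.center P, e x = c
  e_smul : ∀ (k : L) x, x ∈ Subgroup.center P → e (k • x) = nrm θ (χ k) * e x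
  e_sq : ∀ x, e (x * x) = nrm θ (π x)
  nrm_bij : Function.Bijective (nrm θ)

theorem exists_param {P : Type u} {L : Type v} [Group P] [Finite P] [CommGroup L] [Finite L]
    [MulDistribMulAction L P] (hO : Ops P L) {r : P} (hr : r ∉ Subgroup.center P) :
    ∃ (F : Type) (_ : Field F) (_ : Fintype F) (_ : CharP F 2) (θ : F ≃+* F) (χ : L →* F)
      (π e : P → F), Fintype.card F = Nat.card (Subgroup.center P) ∧ Param P L r F θ χ π e := by
  classical
  set Z := Subgroup.center P with hZ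
  have hLZ : ∀ (k : L), ∀ z ∈ Z, k • z ∈ Z := fun k z hz => by
    rw [hO.cen, ← smul_mul', (hO.cen z).1 hz, smul_one]
  have hsqZ : ∀ x : P, x * x ∈ Z := fun x => (hO.cen _).2 (hO.four x)
  letI : CommGroup Z :=
    { (inferInstance : Group Z) with
      mul_comm := fun a b => Subtype.ext (Subgroup.mem_center_iff.mp b.2 a) }
  letI : MulDistribMulAction L Z :=
    { smul := fun k z => ⟨k • (z : P), hLZ k z z.2⟩
      one_smul := fun z => Subtype.ext (one_smul L (z : P))
      mul_smul := fun k l z => Subtype.ext (mul_smul k l (z : P))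
      smul_mul := fun k a b => Subtype.ext (smul_mul' k (a : P) (b : P))
      smul_one := fun k => Subtype.ext (smul_one k) }
  have hr1 : r * r ≠ 1 := fun h => hr ((hO.cen r).2 h)
  haveI : Nontrivial Z := ⟨⟨⟨r * r, hsqZ r⟩, 1, fun h => hr1 (congrArg Subtype.val h)⟩⟩
  have hfreeZ : ∀ (k : L) (a : Z), a ≠ 1 → k • a = a → k = 1 := fun k a ha h =>
    hO.free k a (fun h' => ha (Subtype.ext h')) (congrArg Subtype.val h)
  obtain ⟨F, hF, hFfin, e1, χ1, he1b, he1a, he1k, hχ1, hχ1s⟩ :=
    H66.exists_field_of_regular (trans_of_free hfreeZ hO.cardL) hfreeZ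
  -- the quotient
  have hcardX : Nat.card (P ⧸ Z) = Nat.card Z := by
    have := Subgroup.card_eq_card_quotient_mul_card_subgroup Z
    rw [hO.cardP, pow_two] at this
    exact (Nat.eq_of_mul_eq_mul_right (Nat.card_pos (α := Z)) this).symm
  haveI : Nontrivial (P ⧸ Z) := by
    rw [← Finite.one_lt_card_iff_nontrivial, hcardX]
    exact Finite.one_lt_card
  letI : MulDistribMulAction L (P ⧸ Z) :=
    { smul := fun k => QuotientGroup.map Z Z (MulDistribMulAction.toMonoidHom P k)
        (fun z hz => hLZ k z hz)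
      one_smul := fun x => by
        obtain ⟨g, rfl⟩ := QuotientGroup.mk_surjective x
        exact congrArg QuotientGroup.mk (one_smul L g)
      mul_smul := fun k l x => by
        obtain ⟨g, rfl⟩ := QuotientGroup.mk_surjective x
        exact congrArg QuotientGroup.mk (mul_smul k l g)
      smul_mul := fun k x y => map_mul _ x y
      smul_one := fun k => map_one _ }
  have hsmk : ∀ (k : L) (g : P), k • (g : P ⧸ Z) = ((k • g : P) : P ⧸ Z) := fun k g => rfl
  have hXfree : ∀ (k : L) (x : P ⧸ Z), x ≠ 1 → k • x = x → k = 1 := by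
    intro k x hx hk
    obtain ⟨g, rfl⟩ := QuotientGroup.mk_surjective x
    rw [ne_eq, QuotientGroup.eq_one_iff] at hx
    rw [hsmk] at hk
    have hz : g⁻¹ * k • g ∈ Z := by
      rw [← QuotientGroup.eq]; exact hk.symm
    refine hO.free k (g * g) (fun h => hx ((hO.cen g).2 h)) ?_
    set z := g⁻¹ * k • g with hzdef
    have e : k • g = g * z := by rw [hzdef]; group
    rw [smul_mul', e]
    calc g * z * (g * z) = g * (z * g) * z := by group
      _ = g * g * (z * z) := by rw [← Subgroup.mem_center_iff.mp hz g]; group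
      _ = g * g := by rw [(hO.cen z).1 hz, mul_one]
  have hX2 : ∀ y : P ⧸ Z, y * y = 1 := fun y => by
    obtain ⟨g, rfl⟩ := QuotientGroup.mk_surjective y
    rw [← QuotientGroup.mk_mul, QuotientGroup.eq_one_iff]
    exact hsqZ g
  letI : CommGroup (P ⧸ Z) :=
    { (inferInstance : Group (P ⧸ Z)) with
      mul_comm := fun a b => by
        have hi : ∀ y : P ⧸ Z, y⁻¹ = y := fun y => inv_eq_of_mul_eq_one_right (hX2 y)
        calc a * b = (a * b)⁻¹ := (hi _).symm
          _ = b * a := by rw [_root_.mul_inv_rev, hi, hi] }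
  obtain ⟨F', hF', hF'fin, e2, χ2, he2b, he2a, he2k, hχ2, hχ2s⟩ :=
    H66.exists_field_of_regular (E := P ⧸ Z) (K := L)
      (trans_of_free hXfree (hO.cardL.trans hcardX.symm)) hXfree
  have hFcard : Fintype.card F = Nat.card Z := by
    rw [Fintype.card_eq_nat_card]; exact (Nat.card_eq_of_bijective e1 he1b).symm
  have hF'card : Fintype.card F' = Nat.card Z := by
    rw [← hcardX, Fintype.card_eq_nat_card]; exact (Nat.card_eq_of_bijective e2 he2b).symm
  let ι : F' ≃+* F := FiniteField.ringEquivOfCardEq (K := F') (K' := F) (by rw [hFcard, hF'card])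
  have hp : IsPGroup 2 Z := fun z => ⟨1, Subtype.ext (by
    show (z : P) ^ (2 ^ 1) = 1
    rw [pow_one, pow_two]
    exact (hO.cen _).1 z.2)⟩
  haveI : CharP F 2 := by
    obtain ⟨m, hm⟩ := hp.exists_card_eq
    haveI := Fact.mk Nat.prime_two
    exact charP_of_card_eq_prime_pow (hFcard.trans hm)
  have he11 : e1 1 = 0 := by
    have h := he1a 1 1; rw [one_mul] at h; exact left_eq_add.mp h
  have he21 : e2 1 = 0 := by
    have h := he2a 1 1; rw [one_mul] at h; exact left_eq_add.mp h
  have hρ : ι (e2 r) ≠ 0 := fun h => hr ((QuotientGroup.eq_one_iff r).1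
    (he2b.1 ((ι.injective (h.trans (map_zero ι).symm)).trans he21.symm)))
  set π₀ : P → F := fun g => (ι (e2 r))⁻¹ * ι (e2 g) with hπ₀
  have hπr : π₀ r = 1 := inv_mul_cancel₀ hρ
  have hπmul : ∀ x y, π₀ (x * y) = π₀ x + π₀ y := fun x y => by
    show _ * ι (e2 ((x * y : P) : P ⧸ Z)) = _
    rw [QuotientGroup.mk_mul, he2a, map_add, mul_add]
  have hπk : ∀ (k : L) (x : P), π₀ (k • x) = ι (χ2 k) * π₀ x := fun k x => by
    show _ * ι (e2 ((k • x : P) : P ⧸ Z)) = ι (χ2 k) * (_ * ι (e2 (x : P ⧸ Z)))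
    rw [← hsmk, he2k, map_mul]; ring
  have hπsurj : Function.Surjective π₀ := fun c => by
    obtain ⟨y, hy⟩ := he2b.2 (ι.symm (ι (e2 r) * c))
    obtain ⟨g, rfl⟩ := QuotientGroup.mk_surjective y
    refine ⟨g, ?_⟩
    show _ * ι (e2 g) = c
    rw [hy, ι.apply_symm_apply, inv_mul_cancel_left₀ hρ]
  have hπker : ∀ x, π₀ x = 0 ↔ x ∈ Z := fun x => by
    show _ * ι (e2 x) = 0 ↔ _
    rw [mul_eq_zero, or_iff_right (inv_ne_zero hρ), ← map_zero ι, ι.injective.eq_iff, ← he21,
      he2b.1.eq_iff, QuotientGroup.eq_one_iff]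
  set c := e1 ⟨r * r, hsqZ r⟩ with hcdef
  have hc0 : c ≠ 0 := fun h => hr1 (congrArg Subtype.val (he1b.1 (h.trans he11.symm)))
  -- the squaring map
  have hwell : ∀ x y, π₀ x = π₀ y → x * x = y * y := by
    intro x y h
    have h1 : x⁻¹ * y ∈ Z := by
      rw [← hπker]
      have h2 := hπmul x (x⁻¹ * y)
      rw [mul_inv_cancel_left, ← h] at h2
      exact left_eq_add.mp h2
    set z := x⁻¹ * y with hz
    have e : y = x * z := by rw [hz]; group
    rw [e]
    symm
    calc x * z * (x * z) = x * (z * x) * z := by group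
      _ = x * x * (z * z) := by rw [← Subgroup.mem_center_iff.mp h1 x]; group
      _ = x * x := by rw [(hO.cen z).1 h1, mul_one]
  let e' : P → F := fun x => if h : x ∈ Z then c⁻¹ * e1 ⟨x, h⟩ else 0
  have he' : ∀ (x : P) (h : x ∈ Z), e' x = c⁻¹ * e1 ⟨x, h⟩ := fun x h => dif_pos h
  have he'k : ∀ (k : L) (x : P), x ∈ Z → e' (k • x) = χ1 k * e' x := fun k x hx => by
    rw [he' _ hx, he' _ (hLZ k x hx), mul_left_comm, ← he1k]
    rfl
  choose lift hlift using hπsurj
  let Qm : F → F := fun a => e' (lift a * lift a)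
  have hQ : ∀ x, Qm (π₀ x) = e' (x * x) := fun x => congrArg e' (hwell _ _ (hlift _))
  have hQk : ∀ (k : L) (a : F), Qm (ι (χ2 k) * a) = χ1 k * Qm a := by
    intro k a
    have e : π₀ (k • lift a) = ι (χ2 k) * a := by rw [hπk, hlift]
    rw [← e, hQ, ← smul_mul', he'k k _ (hsqZ _)]
  have hQ1 : Qm 1 = 1 := by
    have h := hQ r
    rw [hπr, he' _ (hsqZ r), ← hcdef, inv_mul_cancel₀ hc0] at h
    exact h
  have hQ0 : Qm 0 = 0 := by
    have h := hQ 1
    rw [(hπker 1).mpr (one_mem _), one_mul, he' _ (one_mem _)] at h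
    rw [h, show (⟨(1 : P), one_mem Z⟩ : Z) = 1 from rfl, he11, mul_zero]
  have hχ1Q : ∀ k, Qm (ι (χ2 k)) = χ1 k := fun k => by
    rw [← mul_one (ι (χ2 k)), hQk, hQ1, mul_one]
  have hpre : ∀ a : F, a ≠ 0 → ∃ k, ι (χ2 k) = a := fun a ha => by
    obtain ⟨k, hk⟩ := hχ2s (ι.symm a)
      (fun h => ha (by rw [← ι.apply_symm_apply a, h, map_zero]))
    exact ⟨k, by rw [hk, ι.apply_symm_apply]⟩
  have hQmul : ∀ a b, Qm (a * b) = Qm a * Qm b := by
    intro a b
    by_cases ha : a = 0
    · rw [ha, zero_mul, hQ0, zero_mul]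
    obtain ⟨k, rfl⟩ := hpre a ha
    rw [hQk, hχ1Q]
  have he'mul : ∀ x y, x ∈ Z → y ∈ Z → e' (x * y) = e' x + e' y := fun x y hx hy => by
    rw [he' _ (mul_mem hx hy), he' _ hx, he' _ hy, ← mul_add, ← he1a]
    rfl
  have hQquad : ∀ x y z : F,
      Qm (x + y + z) + Qm (x + y) + Qm (x + z) + Qm (y + z) + Qm x + Qm y + Qm z = 0 := by
    have hcomZ : ∀ x y : P, y * x * y⁻¹ * x⁻¹ ∈ Z := fun x y => by
      rw [← QuotientGroup.eq_one_iff]
      simp only [QuotientGroup.mk_mul, QuotientGroup.mk_inv]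
      rw [mul_comm (y : P ⧸ Z) x, mul_inv_cancel_right, mul_inv_cancel]
    let B : P → P → F := fun x y => e' (y * x * y⁻¹ * x⁻¹)
    have hpol : ∀ x y, Qm (π₀ (x * y)) = Qm (π₀ x) + Qm (π₀ y) + B x y := fun x y => by
      rw [hQ, hQ, hQ, ← he'mul _ _ (hsqZ x) (hsqZ y),
        ← he'mul _ _ (mul_mem (hsqZ x) (hsqZ y)) (hcomZ x y)]
      congr 1
      calc x * y * (x * y) = x * ((y * x * y⁻¹ * x⁻¹) * x) * y * y := by group
        _ = x * (x * (y * x * y⁻¹ * x⁻¹)) * y * y := by
          rw [← Subgroup.mem_center_iff.mp (hcomZ x y) x]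
        _ = x * x * ((y * x * y⁻¹ * x⁻¹) * (y * y)) := by group
        _ = _ := by rw [← Subgroup.mem_center_iff.mp (hcomZ x y) (y * y)]; group
    have hB : ∀ x y z, B (x * y) z = B x z + B y z := fun x y z => by
      show e' _ = e' _ + e' _
      rw [← he'mul _ _ (hcomZ x z) (hcomZ y z)]
      congr 1
      calc z * (x * y) * z⁻¹ * (x * y)⁻¹
          = (z * x * z⁻¹) * (z * y * z⁻¹ * y⁻¹) * x⁻¹ := by group
        _ = _ := by
          rw [mul_assoc (z * x * z⁻¹), ← Subgroup.mem_center_iff.mp (hcomZ y z) x⁻¹]; group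
    intro a b d
    rw [← hlift a, ← hlift b, ← hlift d, ← hπmul, ← hπmul, ← hπmul, ← hπmul, hpol, hpol, hpol,
      hpol, hB]
    linear_combination (Qm (π₀ (lift a)) + Qm (π₀ (lift b)) + Qm (π₀ (lift d))) *
      (CharTwo.two_eq_zero (R := F)) + (Qm (π₀ (lift a)) + Qm (π₀ (lift b)) + Qm (π₀ (lift d)) +
        B (lift a) (lift b) + B (lift a) (lift d) + B (lift b) (lift d)) *
      (CharTwo.two_eq_zero (R := F))
  -- `Qm` is a product of two automorphisms
  haveI : Finite (F ≃+* F) := Finite.of_injective (fun σ : F ≃+* F => (σ : F → F))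
    DFunLike.coe_injective
  letI := Fintype.ofFinite (F ≃+* F)
  obtain ⟨cq, hcq⟩ := H66.quadratic_comb Qm hQquad
  let hQh : F →* F := { toFun := Qm, map_one' := hQ1, map_mul' := hQmul }
  let hh : (F ≃+* F) × (F ≃+* F) → (F →* F) := fun p =>
    { toFun := fun x => p.1 x * p.2 x
      map_one' := by rw [map_one, map_one, one_mul]
      map_mul' := fun x y => by rw [map_mul, map_mul]; ring }
  obtain ⟨⟨σ, τ⟩, hστ⟩ : ∃ p, hh p = hQh := by
    by_contra hcon
    push Not at hcon
    have hnot : hQh ∉ Set.range hh := by rintro ⟨p, hp'⟩; exact hcon p hp'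
    apply (linearIndependent_monoidHom F F).notMem_span_image hnot
    have e : (hQh : F → F) = ∑ p, cq p • (hh p : F → F) := by
      funext x
      simp only [Finset.sum_apply, Pi.smul_apply, smul_eq_mul]
      exact hcq x
    show (hQh : F → F) ∈ _
    rw [e]
    exact Submodule.sum_mem _ fun p _ =>
      Submodule.smul_mem _ _ (Submodule.subset_span ⟨hh p, ⟨p, rfl⟩, rfl⟩)
  have hQst : ∀ a, Qm a = σ a * τ a := fun a => (DFunLike.congr_fun hστ a).symm
  set θ : F ≃+* F := σ.symm.trans τ with hθ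
  have hQθ : ∀ a, Qm a = nrm θ (σ a) := fun a => by
    rw [hQst, nrm]
    show _ = τ (σ.symm (σ a)) * σ a
    rw [σ.symm_apply_apply, mul_comm]
  have hinj : Function.Injective (nrm θ) := by
    intro a b h
    obtain ⟨a, rfl⟩ := σ.surjective a
    obtain ⟨b, rfl⟩ := σ.surjective b
    rw [← hQθ, ← hQθ] at h
    have h0 : ∀ a, Qm a = 0 → a = 0 := fun a ha => by
      rw [hQst, mul_eq_zero, map_eq_zero_iff σ σ.injective, map_eq_zero_iff τ τ.injective,
        or_self_iff] at ha
      exact ha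
    by_cases ha : a = 0
    · rw [ha, hQ0] at h
      rw [ha, h0 b h.symm]
    by_cases hb : b = 0
    · rw [hb, hQ0] at h
      exact absurd (h0 a h) ha
    obtain ⟨k, rfl⟩ := hpre a ha
    obtain ⟨l, rfl⟩ := hpre b hb
    rw [hχ1Q, hχ1Q] at h
    rw [hχ1 h]
  let χ : L →* F := ((σ : F →+* F).comp (ι : F' →+* F)).toMonoidHom.comp χ2
  have hχ : ∀ k, χ k = σ (ι (χ2 k)) := fun k => rfl
  refine ⟨F, hF, hFfin, inferInstance, θ, χ, fun x => σ (π₀ x), e', hFcard,
    ⟨fun k l h => hχ2 (ι.injective (σ.injective h)), fun a ha => ?_,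
      fun x y => by show σ _ = _; rw [hπmul, map_add],
      fun x => by show σ (π₀ x) = 0 ↔ _; rw [map_eq_zero_iff σ σ.injective, hπker],
      fun k x => by show σ _ = _; rw [hπk, map_mul, hχ],
      by show σ _ = _; rw [hπr, map_one], he'mul, fun x y hx hy h => ?_, fun z => ?_,
      fun k x hx => by rw [he'k k x hx, hχ, ← hQθ, hχ1Q],
      fun x => by rw [← hQ, hQθ], Finite.injective_iff_bijective.1 hinj⟩⟩
  · obtain ⟨b, rfl⟩ := σ.surjective a
    obtain ⟨k, rfl⟩ := hpre b (fun h => ha (by rw [h, map_zero]))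
    exact ⟨k, rfl⟩
  · rw [he' _ hx, he' _ hy] at h
    exact congrArg Subtype.val (he1b.1 (mul_left_cancel₀ (inv_ne_zero hc0) h))
  · obtain ⟨w, hw⟩ := he1b.2 (c * z)
    exact ⟨w, w.2, by rw [he' _ w.2, hw, inv_mul_cancel_left₀ hc0]⟩

end H11.SzUniq
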