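import Mathlib

/-!
Relations between the coordinates of a point stabiliser and the exchanging involution of a
Zassenhaus group with non-abelian 2-kernel, and the formula `t q(1, ℓ X) t = q δ t q`.
-/

set_option autoImplicit false
set_option linter.style.haveILetI false
set_option linter.unusedSectionVars false

namespace H11.SzUniq

variable {F : Type*} [Field F] {G : Type*} [Group G]

/-- `θ x * x`. -/
def nrm (θ : F ≃+* F) (x : F) : F := θ x * x

/-- The cocycle. -/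
def kap (θ : F ≃+* F) (μ a b : F) : F := μ * (a * θ b) + (1 + μ) * (θ a * b)

/-- The additive map attached to the cocycle. -/
def ell (θ : F ≃+* F) (μ x : F) : F := μ * θ x + (1 + μ) * x

/-- The relations. -/
structure Rel (θ : F ≃+* F) (μ k : F) (q : F → F → G) (δ : Fˣ →* G) (t : G) : Prop where
  mul : ∀ a c b d, q a c * q b d = q (a + b) (c + d + kap θ μ a b)
  conj : ∀ (l : Fˣ) (a c : F), δ l * q a c = q ((l : F) * a) (nrm θ (l : F) * c) * δ l
  sq : t * t = 1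
  swap : ∀ l : Fˣ, t * δ l = δ l⁻¹ * t
  base : t * q 0 k * t = (q 1 0)⁻¹ * t * q 1 0

/-- `t x t` lies in the big cell with right component `R`. -/
def Cell (q : F → F → G) (δ : Fˣ →* G) (t x : G) (R : F) : Prop :=
  ∃ (L lc : F) (H : Fˣ) (rc : F), t * x * t = q L lc * δ H * t * q R rc

variable [CharP F 2] {θ : F ≃+* F} {μ k : F} {q : F → F → G} {δ : Fˣ →* G} {t : G}

theorem nrm_mul (θ : F ≃+* F) (x y : F) : nrm θ (x * y) = nrm θ x * nrm θ y := by
  rw [nrm, nrm, nrm, map_mul]; ring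

theorem nrm_one (θ : F ≃+* F) : nrm θ (1 : F) = 1 := by simp [nrm]

theorem nrm_zero (θ : F ≃+* F) : nrm θ (0 : F) = 0 := by simp [nrm]

theorem nrm_inv (θ : F ≃+* F) (x : F) : nrm θ x⁻¹ = (nrm θ x)⁻¹ := by
  rw [nrm, nrm, map_inv₀, mul_inv]

theorem nrm_ne_zero (θ : F ≃+* F) {x : F} (hx : x ≠ 0) : nrm θ x ≠ 0 :=
  mul_ne_zero (map_ne_zero_iff θ θ.injective |>.2 hx) hx

theorem ell_add (θ : F ≃+* F) (μ x y : F) : ell θ μ (x + y) = ell θ μ x + ell θ μ y := by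
  rw [ell, ell, ell, map_add]; ring

theorem ell_one (θ : F ≃+* F) (μ : F) : ell θ μ 1 = 1 := by
  rw [ell, map_one, mul_one, mul_one, add_left_comm, CharTwo.add_self_eq_zero, add_zero]

namespace Rel

variable (h : Rel θ μ k q δ t)
include h

theorem q_zero : q 0 0 = 1 := by
  have := h.mul 0 0 0 0
  simp only [kap, map_zero, mul_zero, add_zero] at this
  exact mul_eq_left.1 this

theorem q_inv (a c : F) : (q a c)⁻¹ = q a (c + nrm θ a) := by
  refine inv_eq_of_mul_eq_one_right ?_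
  rw [h.mul, CharTwo.add_self_eq_zero, ← h.q_zero]
  congr 1
  rw [kap, nrm]
  linear_combination (c + θ a * a + μ * a * θ a) * (CharTwo.two_eq_zero (R := F))

theorem q_split (a c : F) : q a c = q a 0 * q 0 c := by
  rw [h.mul, add_zero, zero_add]
  simp [kap]

theorem q_zero_mul (a c : F) : q 0 c * q a 0 = q a c := by
  rw [h.mul, add_zero, zero_add]
  simp [kap]

theorem mul_conj (l : Fˣ) (a c : F) :
    q a c * δ l = δ l * q ((↑l⁻¹ : F) * a) (nrm θ (↑l⁻¹ : F) * c) := by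
  rw [h.conj, ← mul_assoc, Units.mul_inv, one_mul, ← mul_assoc, ← nrm_mul, Units.mul_inv, nrm_one,
    one_mul]

theorem delta_t (l : Fˣ) : δ l * t = t * δ l⁻¹ := by rw [h.swap, inv_inv]

/-- Conjugating the cell by `δ`. -/
theorem cell_delta {x : G} {R : F} (hx : Cell q δ t x R) (l : Fˣ) :
    Cell q δ t (δ l * x * (δ l)⁻¹) ((↑l⁻¹ : F) * R) := by
  obtain ⟨L, lc, H, rc, e⟩ := hx
  refine ⟨(↑l⁻¹ : F) * L, nrm θ (↑l⁻¹ : F) * lc, l⁻¹ * H * l⁻¹, nrm θ (↑l⁻¹ : F) * rc, ?_⟩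
  calc t * (δ l * x * (δ l)⁻¹) * t = (t * δ l) * x * (δ l⁻¹ * t) := by rw [map_inv]; group
    _ = (δ l⁻¹ * t) * x * (t * δ l) := by rw [h.swap l]
    _ = δ l⁻¹ * (t * x * t) * δ l := by group
    _ = δ l⁻¹ * q L lc * δ H * (t * (q R rc * δ l)) := by rw [e]; group
    _ = δ l⁻¹ * q L lc * δ H * (δ l⁻¹ * t * q ((↑l⁻¹ : F) * R) (nrm θ (↑l⁻¹ : F) * rc)) := by
      rw [h.mul_conj, ← mul_assoc t, h.swap l]
    _ = _ := by rw [h.conj, map_mul, map_mul]; group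

theorem tR : t * q 1 0 * t = q 1 0 * t * q 0 k := by
  have hb := h.base
  calc t * q 1 0 * t = q 1 0 * ((q 1 0)⁻¹ * t * q 1 0) * t := by group
    _ = q 1 0 * (t * q 0 k * t) * t := by rw [hb]
    _ = q 1 0 * (t * q 0 k * (t * t)) := by group
    _ = q 1 0 * t * q 0 k := by rw [h.sq]; group

theorem tR' : t * q 1 1 * t = q 0 k * t * q 1 1 := by
  have h1 : (q 1 0)⁻¹ = q 1 1 := by rw [h.q_inv, nrm_one, zero_add]
  have h2 : (q 0 k)⁻¹ = q 0 k := by rw [h.q_inv, nrm_zero, add_zero]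
  have ht : t⁻¹ = t := inv_eq_of_mul_eq_one_right h.sq
  have := congrArg (fun g => g⁻¹) h.tR
  simp only [mul_inv_rev, h1, h2, ht, ← mul_assoc] at this
  exact this

theorem tZ (l : Fˣ) : t * q 0 (k * nrm θ (l : F)) * t =
    (q (↑l⁻¹ : F) 0)⁻¹ * δ (l⁻¹ * l⁻¹) * t * q (↑l⁻¹ : F) 0 := by
  have h1 : q 0 (k * nrm θ (l : F)) = δ l * q 0 k * (δ l)⁻¹ := by
    rw [h.conj, mul_zero, mul_comm (nrm θ (l : F)), mul_inv_cancel_right]
  have h2 : q 1 0 * δ l = δ l * q (↑l⁻¹ : F) 0 := by rw [h.mul_conj, mul_one, mul_zero]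
  calc t * q 0 (k * nrm θ (l : F)) * t = (t * δ l) * q 0 k * (δ l⁻¹ * t) := by
        rw [h1, map_inv]; group
    _ = (δ l⁻¹ * t) * q 0 k * (t * δ l) := by rw [h.swap l]
    _ = δ l⁻¹ * (t * q 0 k * t) * δ l := by group
    _ = δ l⁻¹ * (q 1 0)⁻¹ * t * (q 1 0 * δ l) := by rw [h.base]; group
    _ = δ l⁻¹ * (q 1 0)⁻¹ * (t * δ l) * q (↑l⁻¹ : F) 0 := by rw [h2]; group
    _ = (δ l⁻¹ * (q 1 0)⁻¹ * δ l⁻¹) * t * q (↑l⁻¹ : F) 0 := by rw [h.swap l]; group
    _ = _ := by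
      rw [show δ l⁻¹ * (q 1 0)⁻¹ = (q 1 0 * δ l)⁻¹ by rw [mul_inv_rev, map_inv], h2, map_mul,
        mul_inv_rev, map_inv]
      group

end Rel

/-- Linked parameters. -/
structure Pair (θ : F ≃+* F) (X Y : F) : Prop where
  x0 : X ≠ 0
  x1 : 1 + X ≠ 0
  y0 : Y ≠ 0
  y1 : 1 + Y ≠ 0
  rel : nrm θ Y * nrm θ (1 + X) = (nrm θ X + nrm θ (1 + X)) * nrm θ (1 + Y)

theorem Pair.symm {X Y : F} (p : Pair θ X Y) : Pair θ Y X := by
  refine ⟨p.y0, p.y1, p.x0, p.x1, ?_⟩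
  linear_combination p.rel + (nrm θ X * nrm θ (1 + Y) - nrm θ Y * nrm θ (1 + X)) *
    (CharTwo.two_eq_zero (R := F))

theorem Pair.add_ne_zero {X Y : F} (p : Pair θ X Y) : X + Y ≠ 0 := by
  intro e
  obtain rfl : X = Y := CharTwo.add_eq_zero.1 e
  refine mul_ne_zero (nrm_ne_zero θ p.x1) (nrm_ne_zero θ p.x1) ?_
  linear_combination -1 * p.rel

theorem Pair.succ {X Y : F} (p : Pair θ X Y) : Pair θ (1 + X) (Y * (1 + X) / (X + Y)) := by
  have hT := p.add_ne_zero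
  have h2 : (1 : F) + (1 + X) = X := CharTwo.add_cancel_left 1 X
  have h3 : 1 + Y * (1 + X) / (X + Y) = X * (1 + Y) / (X + Y) := by
    field_simp
    linear_combination Y * (CharTwo.two_eq_zero (R := F))
  refine ⟨p.x1, by rw [h2]; exact p.x0, div_ne_zero (mul_ne_zero p.y0 p.x1) hT,
    by rw [h3]; exact div_ne_zero (mul_ne_zero p.x0 p.y1) hT, ?_⟩
  rw [h2, h3, div_eq_mul_inv, div_eq_mul_inv, nrm_mul, nrm_mul, nrm_mul, nrm_mul]
  linear_combination nrm θ X * nrm θ (X + Y)⁻¹ * p.rel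

theorem exists_pair (hN : Function.Bijective (nrm θ)) {X : F} (h0 : X ≠ 0) (h1 : 1 + X ≠ 0) :
    ∃ Y, Pair θ X Y := by
  obtain ⟨γ, hγ⟩ := hN.2 (nrm θ (X / (1 + X)) + 1)
  have hg0 : γ ≠ 0 := fun e => by
    rw [e, nrm_zero] at hγ
    have hh := hN.1 ((CharTwo.add_eq_zero.1 hγ.symm).trans (nrm_one θ).symm)
    rw [div_eq_one_iff_eq h1] at hh
    exact one_ne_zero (right_eq_add.1 hh)
  have hg1 : 1 + γ ≠ 0 := fun e => by
    rw [← CharTwo.add_eq_zero.1 e, nrm_one, right_eq_add] at hγ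
    exact nrm_ne_zero θ (div_ne_zero h0 h1) hγ
  have h2 : 1 + γ / (1 + γ) = 1 / (1 + γ) := by
    field_simp
    linear_combination γ * (CharTwo.two_eq_zero (R := F))
  refine ⟨γ / (1 + γ), h0, h1, div_ne_zero hg0 hg1, by rw [h2]; exact one_div_ne_zero hg1, ?_⟩
  rw [h2, div_eq_mul_inv, one_div, nrm_mul, hγ, div_eq_mul_inv, nrm_mul, nrm_inv, nrm_inv]
  have := nrm_ne_zero θ h1
  field_simp

namespace Rel

variable (h : Rel θ μ k q δ t)
include h

/-- The big cell formula. -/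
theorem cell_pair {X Y : F} (p : Pair θ X Y) :
    Cell q δ t (q 1 (ell θ μ X)) (X * Y)⁻¹ := by
  obtain ⟨hX0, hX1, hY0, hY1, hrel⟩ := p
  let A : Fˣ := Units.mk0 ((1 + X) / X) (div_ne_zero hX1 hX0)
  let C : Fˣ := Units.mk0 ((1 + Y) / Y) (div_ne_zero hY1 hY0)
  have hsum : q 0 (k * nrm θ (↑A⁻¹ : F)) * q 0 k = q 0 (k * nrm θ (↑C⁻¹ : F)) := by
    rw [h.mul, add_zero]
    congr 1
    simp only [A, C, Units.val_inv_eq_inv_val, Units.val_mk0, inv_div, kap, map_zero, mul_zero,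
      add_zero]
    rw [div_eq_mul_inv X, div_eq_mul_inv Y, nrm_mul, nrm_mul, nrm_inv, nrm_inv]
    have hx := nrm_ne_zero θ hX1
    have hy := nrm_ne_zero θ hY1
    field_simp
    linear_combination -1 * k * hrel
  have hA := h.tZ A⁻¹
  have hC := h.tZ C⁻¹
  rw [inv_inv] at hA hC
  -- `t R_A R₁⁻¹ t`
  have hprod : (q (A : F) 0)⁻¹ * δ (A * A) * t * q (A : F) 0 * ((q 1 0)⁻¹ * t * q 1 0) =
      (q (C : F) 0)⁻¹ * δ (C * C) * t * q (C : F) 0 := by
    rw [← hA, ← hC, ← hsum, ← h.base]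
    calc t * q 0 (k * nrm θ (↑A⁻¹ : F)) * t * (t * q 0 k * t)
        = t * q 0 (k * nrm θ (↑A⁻¹ : F)) * (t * t) * q 0 k * t := by group
      _ = _ := by rw [h.sq]; group
  have hmain : t * (q (A : F) 0 * (q 1 0)⁻¹) * t = (δ (A * A))⁻¹ * (q (A : F) 0 *
      (q (C : F) 0)⁻¹) * δ (C * C) * t * (q (C : F) 0 * (q 1 0)⁻¹) := by
    calc t * (q (A : F) 0 * (q 1 0)⁻¹) * t
        = (δ (A * A))⁻¹ * q (A : F) 0 * ((q (A : F) 0)⁻¹ * δ (A * A) * t * q (A : F) 0 *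
            ((q 1 0)⁻¹ * t * q 1 0)) * (q 1 0)⁻¹ := by group
      _ = _ := by rw [hprod]; group
  -- coordinates
  have hx : q (A : F) 0 * (q 1 0)⁻¹ =
      q ((A : F) + 1) (nrm θ ((A : F) + 1) * ell θ μ X) := by
    rw [h.q_inv, h.mul, nrm_one, zero_add, zero_add]
    congr 1
    have hu : X * ((A : F) + 1) = 1 := by
      simp only [A, Units.val_mk0]
      field_simp
      linear_combination X * (CharTwo.two_eq_zero (R := F))
    have hu' : θ X * θ ((A : F) + 1) = 1 := by rw [← map_mul, hu, map_one]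
    simp only [nrm, ell, kap, map_one, mul_one, map_add] at hu' ⊢
    linear_combination -(μ * ((A : F) + 1)) * hu' - (1 + μ) * (θ (A : F) + 1) * hu +
      (-(μ + 1) + 1) * (CharTwo.two_eq_zero (R := F))
  have hcell : Cell q δ t (q ((A : F) + 1) (nrm θ ((A : F) + 1) * ell θ μ X)) ((C : F) + 1) := by
    refine ⟨(↑(A * A)⁻¹ : F) * ((A : F) + C),
      nrm θ (↑(A * A)⁻¹ : F) * (0 + (0 + nrm θ (C : F)) + kap θ μ (A : F) (C : F)),
      (A * A)⁻¹ * (C * C), 0 + (0 + nrm θ 1) + kap θ μ (C : F) 1, ?_⟩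
    rw [← hx, hmain]
    simp only [h.q_inv, h.mul, ← map_inv]
    rw [h.conj, map_mul δ (A * A)⁻¹, mul_assoc (q _ _) (δ (A * A)⁻¹)]
  let l : Fˣ := Units.mk0 X hX0
  have hfin := h.cell_delta hcell l
  rw [h.conj, mul_inv_cancel_right] at hfin
  have hu : (l : F) * ((A : F) + 1) = 1 := by
    simp only [A, l, Units.val_mk0]
    field_simp
    linear_combination X * (CharTwo.two_eq_zero (R := F))
  rw [hu, ← mul_assoc, ← nrm_mul, hu, nrm_one, one_mul] at hfin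
  convert hfin using 1
  simp only [C, l, Units.val_inv_eq_inv_val, Units.val_mk0]
  field_simp
  linear_combination -Y * (CharTwo.two_eq_zero (R := F))

/-- The right component for `μ` arbitrary satisfies a functional equation. -/
theorem key
    (hN : Function.Bijective (nrm θ))
    (huniq : ∀ x R R', Cell q δ t x R → Cell q δ t x R' → R = R') (hk : k ≠ 0)
    {X Y : F} (p : Pair θ X Y) :
    k * nrm θ (X * X * (1 + X * Y)) = ell θ μ X * nrm θ ((1 + X) * (1 + X)) := by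
  have hb : ell θ μ X ≠ 0 := by
    intro e
    have h1 := h.cell_pair p
    rw [e] at h1
    have h2 : Cell q δ t (q 1 0) 0 := ⟨1, 0, 1, k, by rw [h.tR, map_one, mul_one]⟩
    exact inv_ne_zero (mul_ne_zero p.x0 p.y0) (huniq _ _ _ h1 h2)
  obtain ⟨l₀, hl⟩ := hN.2 (ell θ μ X / k)
  have hl' : ell θ μ X = k * nrm θ l₀ := by rw [hl, mul_div_cancel₀ _ hk]
  have hl0 : l₀ ≠ 0 := fun e => hb (by rw [hl', e, nrm_zero, mul_zero])
  obtain ⟨e, he⟩ : ∃ e : Fˣ, e = (Units.mk0 l₀ hl0)⁻¹ := ⟨_, rfl⟩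
  have hZ : t * q 0 (ell θ μ X) * t = (q (e : F) 0)⁻¹ * δ (e * e) * t * q (e : F) 0 := by
    rw [hl', he]
    exact h.tZ (Units.mk0 l₀ hl0)
  have p' := p.succ
  obtain ⟨L', lc', H', rc', hcell'⟩ := h.cell_pair p'
  set R' := ((1 + X) * (Y * (1 + X) / (X + Y)))⁻¹ with hR'
  have hne : nrm θ (e : F) * ell θ μ X = k := by
    rw [hl', mul_left_comm, ← nrm_mul, he, Units.val_inv_eq_inv_val, Units.val_mk0, inv_mul_cancel₀ hl0, nrm_one,
      mul_one]
  have hmid : q 0 k * (q (e : F) 0)⁻¹ = δ e * q 1 (ell θ μ (1 + X)) * (δ e)⁻¹ := by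
    rw [h.conj, mul_inv_cancel_right, h.q_inv, h.mul, mul_one, zero_add, zero_add]
    congr 1
    rw [ell_add, ell_one, kap, map_zero]
    linear_combination -1 * hne
  have hde : (δ e)⁻¹ * δ (e * e) = δ e := by rw [map_mul, inv_mul_cancel_left]
  have h2 : Cell q δ t (q 1 (ell θ μ X)) ((e : F) * R' + e) := by
    refine ⟨1 + (↑e⁻¹ : F) * L', 0 + nrm θ (↑e⁻¹ : F) * lc' + kap θ μ 1 ((↑e⁻¹ : F) * L'),
      e⁻¹ * H' * e, nrm θ (e : F) * rc' + 0 + kap θ μ ((e : F) * R') (e : F), ?_⟩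
    calc t * q 1 (ell θ μ X) * t
        = (t * q 1 0 * t) * (t * q 0 (ell θ μ X) * t) := by
          rw [h.q_split 1 (ell θ μ X)]
          calc t * (q 1 0 * q 0 (ell θ μ X)) * t
              = t * q 1 0 * (1 * q 0 (ell θ μ X)) * t := by group
            _ = _ := by rw [← h.sq]; group
      _ = q 1 0 * t * (q 0 k * (q (e : F) 0)⁻¹) * δ (e * e) * t * q (e : F) 0 := by
          rw [h.tR, hZ]; group
      _ = q 1 0 * (t * δ e) * q 1 (ell θ μ (1 + X)) * ((δ e)⁻¹ * δ (e * e) * t) *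
            q (e : F) 0 := by rw [hmid]; group
      _ = q 1 0 * δ e⁻¹ * (t * q 1 (ell θ μ (1 + X)) * t) * δ e⁻¹ * q (e : F) 0 := by
          rw [hde, h.swap e, h.delta_t e]; group
      _ = q 1 0 * (δ e⁻¹ * q L' lc') * δ H' * t * (q R' rc' * δ e⁻¹) * q (e : F) 0 := by
          rw [hcell']; group
      _ = q 1 0 * (δ e⁻¹ * q L' lc') * δ H' * (t * δ e⁻¹) *
            (q ((e : F) * R') (nrm θ (e : F) * rc') * q (e : F) 0) := by
          rw [h.mul_conj, inv_inv]; group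
      _ = _ := by
          rw [h.conj, h.swap e⁻¹, inv_inv, h.mul, ← mul_assoc (q 1 0), h.mul, map_mul, map_mul]
          group
  have heq := huniq _ _ _ (h.cell_pair p) h2
  have hee : (e : F) * (X * X * (1 + X * Y)) = (1 + X) * (1 + X) := by
    rw [hR'] at heq
    have hT := p.add_ne_zero
    have := p.x0
    have := p.y0
    have := p.x1
    field_simp at heq
    linear_combination -1 * heq - (e : F) * X * Y * (1 + X) * (CharTwo.two_eq_zero (R := F))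
  rw [← hee, nrm_mul θ (e : F), ← mul_assoc, mul_comm (ell θ μ X), hne]

end Rel

end H11.SzUniq
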