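import Cfsg.Agent.H11.SzUniq.Rel

/-!
The functional equation forces `μ ∈ {0, 1}` and, for `μ = 1`, `θ (θ x) = x ^ 2`.
-/

set_option autoImplicit false
set_option linter.style.haveILetI false
set_option linter.unusedSectionVars false

namespace H11.SzUniq

variable {F : Type*} [Field F] [CharP F 2] {θ : F ≃+* F} {μ k : F}

theorem four_zero : (4 : F) = 0 := by
  linear_combination 2 * (CharTwo.two_eq_zero (R := F))

/-- The functional equation. -/
def Key (θ : F ≃+* F) (μ k : F) : Prop :=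
  ∀ X Y : F, Pair θ X Y →
    k * nrm θ (X * X * (1 + X * Y)) = ell θ μ X * nrm θ ((1 + X) * (1 + X))

theorem Key.sum (hk : Key θ μ k) {X Y : F} (p : Pair θ X Y) :
    ell θ μ (X + Y) = k * nrm θ (1 + X * Y) := by
  have h1 := hk X Y p
  have h2 := hk Y X p.symm
  have hr := p.rel
  rw [mul_comm Y X] at h2
  simp only [nrm_mul] at h1 h2
  have ha := nrm_ne_zero θ p.x1
  have hb := nrm_ne_zero θ p.y1
  set A := nrm θ X
  set A' := nrm θ (1 + X)
  set B := nrm θ Y
  set B' := nrm θ (1 + Y)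
  set S := nrm θ (1 + X * Y)
  rw [ell_add]
  apply mul_left_cancel₀ (mul_ne_zero (mul_ne_zero ha ha) (mul_ne_zero hb hb))
  linear_combination -(B' * B') * h1 - (A' * A') * h2 + k * S * (B * A' + (A + A') * B') * hr +
    k * S * (A * A + A * A') * (B' * B') * (CharTwo.two_eq_zero (R := F))

/-- The linear relation between `V = (X + Y) / X` and `θ V`. -/
theorem Key.slope (hk : Key θ μ k) {X Y : F} (p : Pair θ X Y) {V : F} (hV : X + Y = X * V) :
    V * (μ * (1 + θ X) + (1 + μ) * X) = θ V * ((1 + μ) * (1 + X) + μ * θ X) := by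
  have hT := p.add_ne_zero
  have h1 := hk.sum p
  have h2 := hk.sum p.succ
  have e1 : 1 + X + Y * (1 + X) / (X + Y) = X * (1 + X) * (X + Y)⁻¹ := by
    field_simp
    linear_combination (Y + X * Y) * (CharTwo.two_eq_zero (R := F))
  have e2 : 1 + (1 + X) * (Y * (1 + X) / (X + Y)) = X * (1 + X * Y) * (X + Y)⁻¹ := by
    field_simp
    linear_combination (Y + X * Y) * (CharTwo.two_eq_zero (R := F))
  rw [e1, e2, nrm_mul, nrm_mul, show k * (nrm θ X * nrm θ (1 + X * Y) * nrm θ (X + Y)⁻¹) =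
    nrm θ X * (k * nrm θ (1 + X * Y)) * nrm θ (X + Y)⁻¹ by ring, ← h1] at h2
  simp only [nrm, ell, map_mul, map_inv₀, map_add, map_one] at h2 h1
  have hX := p.x0
  have hθX : θ X ≠ 0 := map_ne_zero_iff θ θ.injective |>.2 hX
  have hV0 : V ≠ 0 := fun e => hT (by rw [hV, e, mul_zero])
  have hθV : θ V ≠ 0 := map_ne_zero_iff θ θ.injective |>.2 hV0
  have hθT : θ X + θ Y = θ X * θ V := by rw [← map_add, hV, map_mul]
  rw [hθT, hV] at h2
  field_simp at h2
  linear_combination h2 - (μ * θ V + X * θ V + θ V + μ * X * θ V - V * μ * X - V * X) *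
    (CharTwo.two_eq_zero (R := F))

/-- The combined equation. -/
theorem Key.combined (hk : Key θ μ k) {X Y : F} (p : Pair θ X Y) {V : F} (hV : X + Y = X * V) :
    X * (k * (1 + θ X) + (1 + μ)) * V + θ X * (μ + k * (1 + X)) * θ V = 0 := by
  have h1 := hk.sum p
  have hr := p.rel
  obtain rfl : Y = X + X * V := by
    linear_combination hV - X * (CharTwo.two_eq_zero (R := F))
  rw [hV] at h1
  simp only [nrm, ell, map_mul, map_add, map_one] at h1 hr
  generalize θ V = W at h1 hr ⊢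
  generalize θ X = τ at h1 hr ⊢
  linear_combination (norm := skip) h1 + k * hr
  ring_nf
  simp [CharTwo.two_eq_zero, four_zero]

theorem Key.quad (hN : Function.Bijective (nrm θ)) (hk : Key θ μ k) (X : F) :
    (1 + μ) * (k + (1 + μ)) * (X + X * X) + μ * (μ + k) * θ (X + X * X) = 0 := by
  by_cases h0 : X = 0
  · subst h0; simp
  by_cases h1 : 1 + X = 0
  · rw [← CharTwo.add_eq_zero.1 h1]; simp [CharTwo.add_self_eq_zero]
  obtain ⟨Y, p⟩ := exists_pair hN h0 h1
  obtain ⟨V, hV⟩ : ∃ V, X + Y = X * V := ⟨(X + Y) / X, by field_simp⟩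
  have hV0 : V ≠ 0 := fun e => p.add_ne_zero (by rw [hV, e, mul_zero])
  have h3 := hk.slope p hV
  have h4 := hk.combined p hV
  rw [map_add, map_mul]
  generalize θ V = W at h3 h4
  generalize θ X = τ at h3 h4 ⊢
  refine (mul_eq_zero.1 (?_ : V * _ = 0)).resolve_left hV0
  linear_combination (norm := skip) ((1 + μ) * (1 + X) + μ * τ) * h4 + (τ * (μ + k * (1 + X))) * h3
  ring_nf
  simp [CharTwo.two_eq_zero, four_zero]

omit [CharP F 2] in
/-- A two-element relation is not satisfied by a big subgroup. -/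
theorem coeff_zero (θ : F ≃+* F) (A B : F) {u : F} (hu : u ≠ 0) {W : Set F} (huW : u ∈ W)
    (hW : ∀ w ∈ W, A * w + B * θ w = 0) {v : F} (hvW : v ∈ W) (hv : θ (v / u) ≠ v / u) :
    A = 0 ∧ B = 0 := by
  have hB : B = 0 := by
    by_contra hB
    have e1 := hW u huW
    have e2 := hW v hvW
    have h3 : B * (θ v * u - θ u * v) = 0 := by linear_combination u * e2 - v * e1
    apply hv
    rw [map_div₀]
    have hθu : θ u ≠ 0 := map_ne_zero_iff θ θ.injective |>.2 hu
    rw [div_eq_div_iff hθu hu]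
    linear_combination (mul_eq_zero.1 h3).resolve_left hB
  refine ⟨?_, hB⟩
  have e1 := hW u huW
  rw [hB, zero_mul, add_zero] at e1
  exact (mul_eq_zero.1 e1).resolve_right hu

theorem Key.mu_cases (hN : Function.Bijective (nrm θ)) (hk : Key θ μ k)
    (hbig : ∃ X Z : F, X + X * X ≠ 0 ∧ θ ((Z + Z * Z) / (X + X * X)) ≠ (Z + Z * Z) / (X + X * X))
    (hk0 : k ≠ 0) : k = 1 ∧ (μ = 0 ∨ μ = 1) := by
  obtain ⟨X, Z, hu, hv⟩ := hbig
  obtain ⟨hA, hB⟩ := coeff_zero θ _ _ hu (W := Set.range fun X : F => X + X * X) ⟨X, rfl⟩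
    (by rintro _ ⟨w, rfl⟩; exact hk.quad hN w) ⟨Z, rfl⟩ hv
  rcases mul_eq_zero.1 hB with h | h
  · subst h
    simp only [add_zero, one_mul] at hA
    exact ⟨CharTwo.add_eq_zero.1 hA, Or.inl rfl⟩
  · obtain rfl := CharTwo.add_eq_zero.1 h
    rcases mul_eq_zero.1 hA with h' | h'
    · have := (CharTwo.add_eq_zero.1 h').symm
      exact ⟨this, Or.inr this⟩
    · rw [add_left_comm, CharTwo.add_self_eq_zero, add_zero] at h'
      exact absurd h' one_ne_zero

theorem Key.theta_sq (hN : Function.Bijective (nrm θ)) (hk : Key θ 1 1) (X : F) :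
    θ (θ X) = X ^ 2 := by
  by_cases h0 : X = 0
  · rw [h0, map_zero, map_zero]; ring
  by_cases h1 : 1 + X = 0
  · rw [← CharTwo.add_eq_zero.1 h1, map_one, map_one]; ring
  obtain ⟨Y, p⟩ := exists_pair hN h0 h1
  obtain ⟨V, hV⟩ : ∃ V, X + Y = X * V := ⟨(X + Y) / X, by field_simp⟩
  have hV0 : V ≠ 0 := fun e => p.add_ne_zero (by rw [hV, e, mul_zero])
  have h3 := hk.slope p hV
  have hsum := hk.sum p
  obtain rfl : Y = X + X * V := by
    linear_combination hV - X * (CharTwo.two_eq_zero (R := F))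
  rw [hV] at hsum
  simp only [nrm, ell, map_mul, map_add, map_one, one_mul] at hsum
  have ht0 : θ X ≠ 0 := map_ne_zero_iff θ θ.injective |>.2 h0
  have ht1 : 1 + θ X ≠ 0 := by
    rw [← map_one θ, ← map_add]
    exact map_ne_zero_iff θ θ.injective |>.2 h1
  have h3' : θ X * θ V = V * (1 + θ X) := by
    clear hsum
    generalize θ V = W at h3 ⊢
    grind
  have hVne : V + 1 ≠ 0 := by
    intro e
    rw [show V = 1 from CharTwo.add_eq_zero.1 e, map_one] at h3'
    generalize θ X = τ at h3'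
    exact one_ne_zero (α := F) (by linear_combination -1 * h3')
  have h6 : θ X * (X ^ 2 * θ X * V) = θ X * ((1 + X) ^ 2 * (1 + θ X)) := by
    have h7 : (V + 1) * (1 + θ X) * (θ X * (X ^ 2 * θ X * V) +
        θ X * ((1 + X) ^ 2 * (1 + θ X))) = 0 := by
      generalize θ V = W at h3' hsum
      generalize θ X = τ at h3' hsum ht0 ⊢
      have hs : V * (1 + τ) = (1 + τ * τ + τ * (V * (1 + τ))) * (1 + X * X + X * X * V) := by
        rw [← h3']
        linear_combination (norm := skip) hsum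
        ring_nf
        simp [CharTwo.two_eq_zero]
      linear_combination (norm := skip) τ * hs
      ring_nf
      simp [CharTwo.two_eq_zero, four_zero]
    exact CharTwo.add_eq_zero.1 ((mul_eq_zero.1 h7).resolve_left (mul_ne_zero hVne ht1))
  have h6' := congrArg θ (mul_left_cancel₀ ht0 h6)
  simp only [map_mul, map_pow, map_add, map_one] at h6'
  have h8 : V * ((1 + θ X) * θ (θ X)) * θ X = (1 + θ X) ^ 2 * (1 + θ (θ X)) := by
    rw [← h6']
    linear_combination -(θ (θ X) * θ X) * h3'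
  have h9 : (1 + θ X) ^ 2 * θ X * (θ (θ X) + X ^ 2) = 0 := by
    generalize θ (θ X) = σ at h8 ⊢
    generalize θ X = τ at h8 h6 ⊢
    linear_combination (norm := skip) X ^ 2 * τ * h8 + (1 + τ) * σ * h6
    ring_nf
    simp [CharTwo.two_eq_zero, four_zero]
  exact CharTwo.add_eq_zero.1
    ((mul_eq_zero.1 h9).resolve_left (mul_ne_zero (pow_ne_zero 2 ht1) ht0))

end H11.SzUniq
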